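import Cfsg.Agent.Lib.Solvable.LinearClasses.LinStep
import Cfsg.Agent.Lib.Perm.OddBase.Subsets

/-!
# Class bounds for solvable permutation groups
-/

set_option autoImplicit false
set_option linter.style.haveILetI false

namespace CfsgLib.Solvable.LinearClasses

open CfsgLib.Perm.OddBase (Invariant IsCR IsIrred setAction invariant_compl isCR_of_irred)

variable {G α : Type} [Group G] [Finite G] [Finite α] [MulAction G α]

theorem PermBelow.range {n : ℕ} (IH : PermBelow n) (hs : Group.IsSolvable G)
    (hn : Nat.card α < n) :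
    FB (MulAction.toPermHom G α).range (3 ^ (Nat.card α - 1)) :=
  haveI := hs
  haveI : Finite (MulAction.toPermHom G α).range :=
    Finite.of_surjective _ (MulAction.toPermHom G α).rangeRestrict_surjective
  IH _ α (Group.isSolvable_of_surjective (MulAction.toPermHom G α).rangeRestrict_surjective) hn

theorem rangeRestrict_perm_smul (g : G) (x : α) :
    (MulAction.toPermHom G α).rangeRestrict g • x = g • x := rfl

variable [FaithfulSMul G α]

/-- Two invariant sets. -/
theorem fb_of_invariant (hs : Group.IsSolvable G) (IH : PermBelow (Nat.card α)) (O : Set α)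
    (hO : ∀ g : G, ∀ x ∈ O, g • x ∈ O) (hne : O.Nonempty) (hne' : Oᶜ.Nonempty) :
    FB G (3 ^ (Nat.card α - 1)) := by
  classical
  letI := setAction O hO
  letI := setAction Oᶜ (invariant_compl hO)
  have hsum : Nat.card O + Nat.card ↥Oᶜ = Nat.card α := by
    rw [Nat.card_coe_set_eq, Nat.card_coe_set_eq]; exact Set.ncard_add_ncard_compl O
  have h1 : 0 < Nat.card O := by rw [Nat.card_coe_set_eq]; exact hne.ncard_pos (Set.toFinite _)
  have h2 : 0 < Nat.card ↥Oᶜ := by rw [Nat.card_coe_set_eq]; exact hne'.ncard_pos (Set.toFinite _)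
  haveI : Finite (MulAction.toPermHom G O).range :=
    Finite.of_surjective _ (MulAction.toPermHom G O).rangeRestrict_surjective
  haveI : Finite (MulAction.toPermHom G ↥Oᶜ).range :=
    Finite.of_surjective _ (MulAction.toPermHom G ↥Oᶜ).rangeRestrict_surjective
  refine (FB.of_injective (MonoidHom.prod (MulAction.toPermHom G O).rangeRestrict
    (MulAction.toPermHom G ↥Oᶜ).rangeRestrict) ?_
    (FB.prod (PermBelow.range (α := O) IH hs (by omega))
      (PermBelow.range (α := ↥Oᶜ) IH hs (by omega)))).mono ?_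
  · refine (injective_iff_map_eq_one _).2 fun g hg =>
      FaithfulSMul.eq_of_smul_eq_smul (α := α) fun x => ?_
    rw [one_smul]
    by_cases hx : x ∈ O
    · have e : g • (⟨x, hx⟩ : O) = ⟨x, hx⟩ := by
        rw [← rangeRestrict_perm_smul, show (MulAction.toPermHom G O).rangeRestrict g = 1 from
          congrArg Prod.fst hg, one_smul]
      exact congrArg Subtype.val e
    · have e : g • (⟨x, hx⟩ : ↥Oᶜ) = ⟨x, hx⟩ := by
        rw [← rangeRestrict_perm_smul, show (MulAction.toPermHom G ↥Oᶜ).rangeRestrict g = 1 from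
          congrArg Prod.snd hg, one_smul]
      exact congrArg Subtype.val e
  · rw [← pow_add]
    exact Nat.pow_le_pow_right (by norm_num) (by omega)

/-- A system of blocks. -/
theorem fb_of_fibres (hs : Group.IsSolvable G) (IH : PermBelow (Nat.card α))
    {β : Type} [Finite β] [MulAction G β] (π : α → β)
    (hπ : ∀ (g : G) (x : α), π (g • x) = g • π x) (hsurj : Function.Surjective π)
    (hβ : Nat.card β < Nat.card α) (htwo : ∃ b c : β, b ≠ c) : FB G (3 ^ (Nat.card α - 1)) := by
  classical
  haveI : Fintype β := Fintype.ofFinite β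
  haveI := hs
  set K := (MulAction.toPermHom G β).ker with hK
  have hfix : ∀ (k : K) (b : β), (k : G) • b = b := fun k b =>
    congrArg (fun e : Equiv.Perm β => e b) (k.2 : MulAction.toPermHom G β k.1 = 1)
  have hF : ∀ b : β, ∀ g : K, ∀ x ∈ {x : α | π x = b}, g • x ∈ {x : α | π x = b} :=
    fun b g x hx => by
      show π ((g : G) • x) = b
      rw [hπ, show π x = b from hx, hfix]
  letI act : ∀ b, MulAction K {x : α | π x = b} := fun b => setAction _ (hF b)
  haveI : ∀ b, Finite (MulAction.toPermHom K {x : α | π x = b}).range := fun b =>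
    Finite.of_surjective _ (MulAction.toPermHom K {x : α | π x = b}).rangeRestrict_surjective
  have hpos : ∀ b, 1 ≤ Nat.card {x : α | π x = b} := fun b => by
    obtain ⟨x, hx⟩ := hsurj b
    haveI : Nonempty {x : α | π x = b} := ⟨⟨x, hx⟩⟩
    exact Nat.card_pos
  have hsum : ∑ b, Nat.card {x : α | π x = b} = Nat.card α := by
    rw [← Nat.card_sigma]
    exact Nat.card_congr (Equiv.sigmaFiberEquiv π)
  have hlt : ∀ b, Nat.card {x : α | π x = b} < Nat.card α := fun b => by
    obtain ⟨c, hc⟩ : ∃ c, c ≠ b := by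
      obtain ⟨b', c', hne⟩ := htwo
      by_cases h : b' = b
      · exact ⟨c', fun e => hne (h.trans e.symm)⟩
      · exact ⟨b', h⟩
    rw [Nat.card_coe_set_eq, ← Set.ncard_univ]
    refine Set.ncard_lt_ncard (Set.ssubset_univ_iff.2 fun e => ?_) (Set.toFinite _)
    obtain ⟨y, hy⟩ := hsurj c
    have : y ∈ {x : α | π x = b} := by rw [e]; trivial
    exact hc (hy.symm.trans this)
  have hKb : FB K (3 ^ ∑ b, (Nat.card {x : α | π x = b} - 1)) := by
    rw [← Finset.prod_pow_eq_pow_sum]
    refine FB.of_family (fun b => (MulAction.toPermHom K {x : α | π x = b}).rangeRestrict) ?_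
      fun b => PermBelow.range (α := {x : α | π x = b}) IH inferInstance (hlt b)
    intro k hk
    refine Subtype.ext (FaithfulSMul.eq_of_smul_eq_smul (α := α) fun x => ?_)
    show (k : G) • x = (1 : G) • x
    rw [one_smul]
    have e : k • (⟨x, rfl⟩ : {y : α | π y = π x}) = ⟨x, rfl⟩ := by
      rw [← rangeRestrict_perm_smul, hk (π x), one_smul]
    exact congrArg Subtype.val e
  haveI : Finite (MulAction.toPermHom G β).range :=
    Finite.of_surjective _ (MulAction.toPermHom G β).rangeRestrict_surjective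
  refine (FB.ext (MulAction.toPermHom G β).rangeRestrict
    (by rw [MonoidHom.ker_rangeRestrict]; exact hKb) (PermBelow.range IH hs hβ)).mono ?_
  rw [← pow_add]
  refine Nat.pow_le_pow_right (by norm_num) ?_
  have h := Finset.sum_tsub_distrib (f := fun b => Nat.card {x : α | π x = b}) (g := fun _ => 1)
    Finset.univ (fun b _ => hpos b)
  rw [h, hsum, Finset.sum_const, smul_eq_mul, mul_one, Finset.card_univ, ← Nat.card_eq_fintype_card]
  have : 2 ≤ Nat.card β := by
    haveI : Nontrivial β := by obtain ⟨b, c, h⟩ := htwo; exact ⟨⟨b, c, h⟩⟩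
    exact Finite.one_lt_card
  omega

theorem cube_le : ∀ n : ℕ, n * n * n ≤ 3 ^ n
  | 0 => by norm_num
  | 1 => by norm_num
  | 2 => by norm_num
  | n + 3 => by
    induction n with
    | zero => norm_num
    | succ n ih =>
      rw [show n + 1 + 3 = (n + 3) + 1 by omega, pow_succ]
      nlinarith [Nat.zero_le (n * n * n), Nat.zero_le (n * n)]

/-- An abelian regular normal subgroup. -/
theorem fb_of_regular (hs : Group.IsSolvable G) (IH : LinBelow (Nat.card α + 1))
    (N : Subgroup G) [N.Normal] (hN : ∀ a ∈ N, ∀ b ∈ N, a * b = b * a)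
    (htr : ∀ x y : α, ∃ n ∈ N, n • x = y) (hN0 : N ≠ ⊥)
    (hmin : ∀ M : Subgroup G, M.Normal → M ≤ N → M = ⊥ ∨ M = N) :
    FB G (3 ^ (Nat.card α - 1)) := by
  classical
  haveI := hs
  obtain ⟨n0, hn0, hn0'⟩ : ∃ n ∈ N, n ≠ 1 :=
    (Subgroup.bot_or_exists_ne_one N).resolve_left hN0
  obtain ⟨x0⟩ : Nonempty α := by
    by_contra h
    rw [not_nonempty_iff] at h
    exact hn0' (FaithfulSMul.eq_of_smul_eq_smul (α := α) fun x => (IsEmpty.false x).elim)
  have hreg : ∀ n ∈ N, n • x0 = x0 → n = 1 := by
    intro n hn h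
    refine FaithfulSMul.eq_of_smul_eq_smul (α := α) fun y => ?_
    obtain ⟨m, hm, rfl⟩ := htr x0 y
    rw [one_smul, ← mul_smul, hN n hn m hm, mul_smul, h]
  have hinj : ∀ a ∈ N, ∀ b ∈ N, a • x0 = b • x0 → a = b := fun a ha b hb h => by
    have := hreg (b⁻¹ * a) (N.mul_mem (N.inv_mem hb) ha) (by rw [mul_smul, h, inv_smul_smul])
    exact (inv_mul_eq_one.1 this).symm
  set G0 := MulAction.stabilizer G x0 with hG0
  letI : CommGroup N :=
    { (inferInstance : Group N) with mul_comm := fun a b => Subtype.ext (hN a a.2 b b.2) }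
  letI act : DistribMulAction G0 (Additive N) :=
    { smul := fun g m => Additive.ofMul
        ⟨(g : G) * (Additive.toMul m : N) * (g : G)⁻¹,
          Subgroup.Normal.conj_mem inferInstance _ (Additive.toMul m).2 _⟩
      one_smul := fun m => by
        refine Additive.toMul.injective (Subtype.ext ?_)
        show ((1 : G0) : G) * (Additive.toMul m : N) * ((1 : G0) : G)⁻¹ = _
        simp
      mul_smul := fun g h m => by
        refine Additive.toMul.injective (Subtype.ext ?_)
        show ((g * h : G0) : G) * (Additive.toMul m : N) * ((g * h : G0) : G)⁻¹ =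
          (g : G) * ((h : G) * (Additive.toMul m : N) * (h : G)⁻¹) * (g : G)⁻¹
        push_cast
        group
      smul_zero := fun g => by
        refine Additive.toMul.injective (Subtype.ext ?_)
        show (g : G) * 1 * (g : G)⁻¹ = 1
        group
      smul_add := fun g m k => by
        refine Additive.toMul.injective (Subtype.ext ?_)
        show (g : G) * ((Additive.toMul m : N) * (Additive.toMul k : N) : G) * (g : G)⁻¹ =
          ((g : G) * (Additive.toMul m : N) * (g : G)⁻¹) *
            ((g : G) * (Additive.toMul k : N) * (g : G)⁻¹)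
        group }
  haveI : FaithfulSMul G0 (Additive N) := ⟨fun {g k} hgk => by
    refine Subtype.ext (FaithfulSMul.eq_of_smul_eq_smul (α := α) fun y => ?_)
    obtain ⟨m, hm, rfl⟩ := htr x0 y
    have h1 := congrArg (fun z : Additive N => ((Additive.toMul z : N) : G))
      (hgk (Additive.ofMul ⟨m, hm⟩))
    change (g : G) * m * (g : G)⁻¹ = (k : G) * m * (k : G)⁻¹ at h1
    calc (g : G) • m • x0 = ((g : G) * m * (g : G)⁻¹) • (g : G) • x0 := by
          rw [smul_smul, smul_smul]; congr 1; group
      _ = ((k : G) * m * (k : G)⁻¹) • (k : G) • x0 := by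
          rw [h1, show (g : G) • x0 = x0 from g.2, show (k : G) • x0 = x0 from k.2]
      _ = (k : G) • m • x0 := by rw [smul_smul, smul_smul]; congr 1; group⟩
  have hirr : IsIrred G0 (Additive N) := by
    intro U hU
    set M : Subgroup G := (AddSubgroup.toSubgroup' U).map N.subtype with hMdef
    have hMmem : ∀ z : N, (z : G) ∈ M ↔ Additive.ofMul z ∈ U := fun z => by
      constructor
      · rintro ⟨w, hw, e⟩
        have : w = z := Subtype.ext e
        exact this ▸ hw
      · intro h; exact ⟨z, h, rfl⟩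
    have hMN : M.Normal := ⟨fun m hm g => by
      obtain ⟨k, hk, hkx⟩ := htr x0 (g • x0)
      have hs : k⁻¹ * g ∈ G0 := by
        rw [hG0, MulAction.mem_stabilizer_iff, mul_smul, ← hkx, inv_smul_smul]
      obtain ⟨z, hz, rfl⟩ := hm
      have hN' : (g * z * g⁻¹ : G) ∈ N := Subgroup.Normal.conj_mem inferInstance _ z.2 g
      have h2 := hU ⟨_, hs⟩ _ hz
      refine (hMmem ⟨_, hN'⟩).2 ?_
      have e : (⟨_, hN'⟩ : N) = Additive.toMul ((⟨_, hs⟩ : G0) • Additive.ofMul z) := by
        apply Subtype.ext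
        show g * (z : G) * g⁻¹ = k⁻¹ * g * (z : G) * (k⁻¹ * g)⁻¹
        have h3 := hN k hk _ hN'
        calc g * (z : G) * g⁻¹ = k⁻¹ * (k * (g * z * g⁻¹)) := by group
          _ = k⁻¹ * (g * z * g⁻¹ * k) := by rw [h3]
          _ = _ := by group
      rw [e]; exact h2⟩
    rcases hmin M hMN (Subgroup.map_subtype_le _) with h | h
    · left
      refine (AddSubgroup.eq_bot_iff_forall _).2 fun z hz => ?_
      have := (hMmem (Additive.toMul z)).2 hz
      rw [h, Subgroup.mem_bot] at this
      exact Additive.toMul.injective (Subtype.ext this)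
    · right
      refine (AddSubgroup.eq_top_iff' _).2 fun z => ?_
      exact (hMmem (Additive.toMul z)).1 (by rw [h]; exact (Additive.toMul z).2)
  have hcard : Nat.card N = Nat.card α := Nat.card_congr (Equiv.ofBijective
    (fun m : N => (m : G) • x0)
    ⟨fun a b h => Subtype.ext (hinj _ a.2 _ b.2 h), fun y => by
      obtain ⟨n, hn, rfl⟩ := htr x0 y
      exact ⟨⟨n, hn⟩, rfl⟩⟩)
  have hcard2 : 2 ≤ Nat.card α := hcard ▸ N.one_lt_card_iff_ne_bot.2 hN0
  have h0 : FB G0 (lb (Nat.card α)) := by
    have h := IH G0 (Additive N) inferInstance (isCR_of_irred hirr)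
      (by rw [Nat.card_congr Additive.toMul, hcard]; omega)
    rwa [Nat.card_congr Additive.toMul, hcard] at h
  have hq : FB (G ⧸ N) (lb (Nat.card α)) := by
    refine FB.of_surjective ((QuotientGroup.mk' N).comp G0.subtype) ?_ h0
    intro q
    induction q using QuotientGroup.induction_on with
    | _ g =>
    obtain ⟨k, hk, hkx⟩ := htr x0 (g • x0)
    refine ⟨⟨k⁻¹ * g, ?_⟩, ?_⟩
    · rw [hG0, MulAction.mem_stabilizer_iff, mul_smul, ← hkx, inv_smul_smul]
    · show ((k⁻¹ * g : G) : G ⧸ N) = (g : G ⧸ N)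
      rw [QuotientGroup.mk_mul, (QuotientGroup.eq_one_iff _).2 (N.inv_mem hk), one_mul]
  refine (FB.ext_quotient N (FB.of_card hcard.le) hq).mono ?_
  refine Nat.le_of_mul_le_mul_left ?_ (by norm_num : 0 < 3)
  rw [← pow_succ', Nat.sub_add_cancel (by omega)]
  calc 3 * (Nat.card α * lb (Nat.card α)) = Nat.card α * (3 * lb (Nat.card α)) := by ring
    _ ≤ Nat.card α * (Nat.card α * Nat.card α) := Nat.mul_le_mul_left _ (three_lb hcard2)
    _ = Nat.card α * Nat.card α * Nat.card α := by ring
    _ ≤ _ := cube_le _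

/-- The induction step for sets. -/
theorem perm_step (hs : Group.IsSolvable G) (IH : LinBelow (Nat.card α + 1))
    (IHs : PermBelow (Nat.card α)) : FB G (3 ^ (Nat.card α - 1)) := by
  classical
  haveI := hs
  rcases subsingleton_or_nontrivial G with hG | hG
  · exact FB.of_card ((Finite.card_le_one_iff_subsingleton.2 hG).trans Nat.one_le_two_pow |>.trans
      (Nat.pow_le_pow_left (by norm_num) _))
  rcases isEmpty_or_nonempty α with hα | ⟨⟨x0⟩⟩
  · exact absurd hG (not_nontrivial_iff_subsingleton.2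
      ⟨fun a b => FaithfulSMul.eq_of_smul_eq_smul (α := α) fun x => (IsEmpty.false x).elim⟩)
  by_cases htrans : ∀ y : α, ∃ g : G, g • x0 = y
  swap
  · simp only [not_forall, not_exists] at htrans
    obtain ⟨y, hy⟩ := htrans
    exact fb_of_invariant hs IHs (MulAction.orbit G x0)
      (fun g x hx => (MulAction.orbit_smul g x0) ▸ by
        obtain ⟨k, rfl⟩ := hx
        exact ⟨g * k * g⁻¹, by simp [smul_smul]⟩)
      ⟨x0, MulAction.mem_orbit_self x0⟩ ⟨y, fun ⟨g, hg⟩ => hy g hg⟩
  -- an abelian normal subgroup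
  have hex : ∃ A : Subgroup G, A.Normal ∧ A ≠ ⊥ ∧ ∀ a ∈ A, ∀ b ∈ A, a * b = b * a := by
    obtain ⟨n, hn⟩ := Group.IsSolvable.solvable (G := G)
    by_contra hall
    push Not at hall
    have hne : ∀ i, derivedSeries G i ≠ ⊥ → derivedSeries G (i + 1) ≠ ⊥ := by
      intro i hi h0
      obtain ⟨a, ha, b, hb, hab⟩ := hall _ (derivedSeries_normal G i) hi
      refine hab (commutatorElement_eq_one_iff_mul_comm.1 ?_)
      rw [← Subgroup.mem_bot, ← h0, derivedSeries_succ]
      exact Subgroup.commutator_mem_commutator ha hb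
    have hall' : ∀ i, derivedSeries G i ≠ ⊥ := by
      intro i
      induction i with
      | zero => rw [derivedSeries_zero]; exact top_ne_bot
      | succ i ih => exact hne i ih
    exact hall' n hn
  obtain ⟨A, hA⟩ := hex
  obtain ⟨N, ⟨hNn, hN0, hNab⟩, hmin⟩ := Set.exists_min_image
    {A : Subgroup G | A.Normal ∧ A ≠ ⊥ ∧ ∀ a ∈ A, ∀ b ∈ A, a * b = b * a}
    (fun A => Nat.card A) (Set.toFinite _) ⟨A, hA⟩
  haveI := hNn
  by_cases htr : ∀ x y : α, ∃ n ∈ N, n • x = y
  · refine fb_of_regular hs IH N hNab htr hN0 fun M hM hMN => ?_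
    by_cases hM0 : M = ⊥
    · exact Or.inl hM0
    · exact Or.inr (Subgroup.eq_of_le_of_card_ge hMN
        (hmin M ⟨hM, hM0, fun a ha b hb => hNab a (hMN ha) b (hMN hb)⟩))
  simp only [not_forall] at htr
  obtain ⟨x, y, hxy⟩ := htr
  let s : Setoid α :=
    { r := fun a b => ∃ n ∈ N, n • a = b
      iseqv :=
        { refl := fun a => ⟨1, N.one_mem, one_smul G a⟩
          symm := fun ⟨n, hn, e⟩ => ⟨n⁻¹, N.inv_mem hn, by rw [← e, inv_smul_smul]⟩
          trans := fun ⟨n, hn, e⟩ ⟨m, hm, f⟩ =>
            ⟨m * n, N.mul_mem hm hn, by rw [mul_smul, e, f]⟩ } }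
  have hresp : ∀ (g : G) (a b : α), s a b → s (g • a) (g • b) := by
    rintro g a b ⟨n, hn, rfl⟩
    exact ⟨g * n * g⁻¹, Subgroup.Normal.conj_mem hNn n hn g, by
      rw [mul_smul, mul_smul, inv_smul_smul]⟩
  letI : MulAction G (Quotient s) :=
    { smul := fun g q => Quotient.map (fun a => g • a) (fun a b h => hresp g a b h) q
      one_smul := fun q => Quotient.inductionOn q fun a => congrArg _ (one_smul G a)
      mul_smul := fun g k q => Quotient.inductionOn q fun a => congrArg _ (mul_smul g k a) }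
  refine fb_of_fibres hs IHs (Quotient.mk s) (fun g a => rfl) Quotient.mk_surjective ?_
    ⟨Quotient.mk s x, Quotient.mk s y, fun e => hxy (Quotient.exact e)⟩
  refine lt_of_le_of_ne (Nat.card_le_card_of_surjective _ Quotient.mk_surjective) fun e => ?_
  obtain ⟨n, hn, hn1⟩ : ∃ n ∈ N, n ≠ 1 := (Subgroup.bot_or_exists_ne_one N).resolve_left hN0
  refine hn1 (FaithfulSMul.eq_of_smul_eq_smul (α := α) fun a => ?_)
  rw [one_smul]
  have hinj : Function.Injective (Quotient.mk s) :=
    ((Nat.bijective_iff_surjective_and_card _).2 ⟨Quotient.mk_surjective, e.symm⟩).1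
  exact (hinj (Quotient.sound ⟨n, hn, rfl⟩ : Quotient.mk s a = Quotient.mk s (n • a))).symm

/-- Both statements, by induction. -/
theorem lin_perm_bounds : ∀ n, LinBelow n ∧ PermBelow n := by
  intro n
  induction n using Nat.strong_induction_on with
  | _ n ih =>
    have hP : LinBelow n := fun G V _ _ _ _ _ _ hs hcr hlt =>
      lin_step hs hcr (ih _ hlt).1 (ih _ hlt).2
    refine ⟨hP, fun G α _ _ _ _ _ hs hlt => perm_step hs ?_ (ih _ hlt).2⟩
    rcases Nat.lt_or_ge (Nat.card α + 1) n with h | h
    · exact (ih _ h).1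
    · exact hP.mono (by omega)

end CfsgLib.Solvable.LinearClasses
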