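import Mathlib

/-!
# Class numbers of all subgroups

`FB X c` says that no subgroup of `X` has more than `c` classes.  The bound passes along
injections and surjections and is multiplicative in extensions.
-/

set_option autoImplicit false

namespace CfsgLib.Solvable.LinearClasses

/-- No subgroup has more than `c` classes. -/
def FB (X : Type*) [Group X] (c : ℕ) : Prop := ∀ Y : Subgroup X, Nat.card (ConjClasses Y) ≤ c

/-- The class number of an extension is at most the product of the class numbers. -/
theorem card_classes_le_mul {G : Type*} [Group G] [Finite G] (N : Subgroup G) [N.Normal] :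
    Nat.card (ConjClasses G) ≤ Nat.card (ConjClasses N) * Nat.card (ConjClasses (G ⧸ N)) := by
  classical
  let f : {p : G × G // Commute p.1 p.2} → {q : (G ⧸ N) × (G ⧸ N) // Commute q.1 q.2} := fun p =>
    ⟨(QuotientGroup.mk' N p.1.1, QuotientGroup.mk' N p.1.2), p.2.map (QuotientGroup.mk' N)⟩
  have hfib : ∀ q, Nat.card {p // f p = q} ≤ Nat.card {m : N × N // Commute m.1 m.2} := by
    intro q
    -- pairs of an element of the first coset and an element of `N` commuting with it
    let T := {x : G × N // (x.1 : G ⧸ N) = q.1.1 ∧ Commute x.1 (x.2 : G)}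
    have h1 : Nat.card {p // f p = q} ≤ Nat.card T := by
      let good : G → G → Prop := fun x y => (y : G ⧸ N) = q.1.2 ∧ Commute x y
      have hgood : ∀ p : {p // f p = q}, good p.1.1.1 p.1.1.2 := fun p =>
        ⟨congrArg (fun z => z.1.2) p.2, p.1.2⟩
      let y0 : G → G := fun x => if h : ∃ y, good x y then h.choose else 1
      have hy0 : ∀ x y, good x y → good x (y0 x) := fun x y h => by
        have hx : ∃ y, good x y := ⟨y, h⟩
        simp only [y0, dif_pos hx]
        exact hx.choose_spec
      have hmem : ∀ p : {p // f p = q}, (y0 p.1.1.1)⁻¹ * p.1.1.2 ∈ N := fun p =>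
        QuotientGroup.eq.1 ((hy0 _ _ (hgood p)).1.trans (hgood p).1.symm)
      refine Nat.card_le_card_of_injective (fun p => (⟨(p.1.1.1, ⟨_, hmem p⟩),
        congrArg (fun z => z.1.1) p.2,
        (hy0 _ _ (hgood p)).2.inv_right.mul_right p.1.2⟩ : T)) ?_
      rintro ⟨⟨⟨a, b⟩, hab⟩, hp⟩ ⟨⟨⟨c, d⟩, hcd⟩, hq⟩ he
      have e1 : a = c := congrArg (fun t : T => t.1.1) he
      subst e1
      have e2 := congrArg (fun t : T => ((t.1.2 : N) : G)) he
      obtain rfl : b = d := mul_left_cancel e2
      rfl
    have h2 : Nat.card T ≤ Nat.card {m : N × N // Commute m.1 m.2} := by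
      let good : N → G → Prop := fun n x => (x : G ⧸ N) = q.1.1 ∧ Commute x (n : G)
      let x0 : N → G := fun n => if h : ∃ x, good n x then h.choose else 1
      have hx0 : ∀ n x, good n x → good n (x0 n) := fun n x h => by
        have hx : ∃ x, good n x := ⟨x, h⟩
        simp only [x0, dif_pos hx]
        exact hx.choose_spec
      have hmem : ∀ t : T, (x0 t.1.2)⁻¹ * t.1.1 ∈ N := fun t =>
        QuotientGroup.eq.1 ((hx0 t.1.2 t.1.1 t.2).1.trans t.2.1.symm)
      refine Nat.card_le_card_of_injective (fun t : T =>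
        (⟨(t.1.2, ⟨_, hmem t⟩), Subtype.ext
          ((hx0 t.1.2 t.1.1 t.2).2.inv_left.mul_left t.2.2).symm⟩ :
            {m : N × N // Commute m.1 m.2})) ?_
      rintro ⟨⟨a, n⟩, ha⟩ ⟨⟨b, m⟩, hb⟩ he
      have e1 : n = m := congrArg (fun t : {m : N × N // Commute m.1 m.2} => t.1.1) he
      subst e1
      have e2 := congrArg (fun t : {m : N × N // Commute m.1 m.2} => ((t.1.2 : N) : G)) he
      obtain rfl : a = b := mul_left_cancel e2
      rfl
    exact h1.trans h2
  haveI : Fintype {q : (G ⧸ N) × (G ⧸ N) // Commute q.1 q.2} := Fintype.ofFinite _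
  have h := Nat.card_congr (Equiv.sigmaFiberEquiv f)
  rw [Nat.card_sigma] at h
  have hle := Finset.sum_le_card_nsmul Finset.univ _ _ fun q _ => hfib q
  rw [h, smul_eq_mul, Finset.card_univ, ← Nat.card_eq_fintype_card,
    card_comm_eq_card_conjClasses_mul_card, card_comm_eq_card_conjClasses_mul_card,
    card_comm_eq_card_conjClasses_mul_card, Subgroup.card_eq_card_quotient_mul_card_subgroup N] at hle
  refine Nat.le_of_mul_le_mul_right ?_
    (Nat.mul_pos (Nat.card_pos (α := G ⧸ N)) (Nat.card_pos (α := N)))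
  refine hle.trans (le_of_eq ?_)
  ring

/-- Few classes if the centralisers outside a small set are small. -/
theorem card_classes_lt {G : Type*} [Group G] [Finite G] (T : Set G) {z M : ℕ} (h1 : 1 ∈ T)
    (hM : 0 < M) (hT : T.ncard ≤ z) (h : ∀ y, y ∉ T → Nat.card {x // Commute y x} ≤ M) :
    Nat.card (ConjClasses G) < z + M := by
  classical
  haveI : Fintype G := Fintype.ofFinite G
  have e : Nat.card (ConjClasses G) * Nat.card G = ∑ y : G, Nat.card {x // Commute y x} := by
    rw [← card_comm_eq_card_conjClasses_mul_card, ← Nat.card_sigma]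
    exact Nat.card_congr
      { toFun := fun p => ⟨p.1.1, p.1.2, p.2⟩
        invFun := fun p => ⟨(p.1, p.2.1), p.2.2⟩
        left_inv := fun p => rfl
        right_inv := fun p => rfl }
  rw [← Finset.sum_add_sum_compl T.toFinset] at e
  have a : ∑ y ∈ T.toFinset, Nat.card {x // Commute y x} ≤ T.toFinset.card * Nat.card G := by
    refine (Finset.sum_le_card_nsmul _ _ (Nat.card G) fun y _ => ?_).trans (le_of_eq (smul_eq_mul _ _))
    exact Nat.card_le_card_of_injective _ Subtype.val_injective
  have b : ∑ y ∈ T.toFinsetᶜ, Nat.card {x // Commute y x} ≤ T.toFinsetᶜ.card * M :=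
    (Finset.sum_le_card_nsmul _ _ M fun y hy => h y (by simpa using hy)).trans
      (le_of_eq (smul_eq_mul _ _))
  have c : T.toFinsetᶜ.card < Nat.card G := by
    rw [Nat.card_eq_fintype_card]
    exact Finset.card_lt_univ_of_notMem (x := 1) (by simpa using h1)
  have d : T.toFinset.card * Nat.card G ≤ z * Nat.card G := by
    refine Nat.mul_le_mul_right _ ?_
    rwa [← Set.ncard_eq_toFinset_card']
  have c' : T.toFinsetᶜ.card * M < Nat.card G * M := Nat.mul_lt_mul_of_pos_right c hM
  refine Nat.lt_of_mul_lt_mul_right (a := Nat.card G) ?_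
  rw [e, add_mul, mul_comm M]
  omega

namespace FB

variable {X X' : Type*} [Group X] [Group X']

theorem mono {a b : ℕ} (h : FB X a) (hab : a ≤ b) : FB X b := fun Y => (h Y).trans hab

theorem top {c : ℕ} (h : FB X c) : Nat.card (ConjClasses X) ≤ c := by
  refine le_of_eq_of_le ?_ (h ⊤)
  refine Nat.card_congr (Equiv.ofBijective (ConjClasses.map
    (Subgroup.topEquiv : (⊤ : Subgroup X) ≃* X).symm.toMonoidHom) ⟨fun a b hab => ?_,
      ConjClasses.map_surjective (MulEquiv.surjective _)⟩)
  induction a using Quotient.inductionOn with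
  | h a =>
  induction b using Quotient.inductionOn with
  | h b =>
  have h' := (ConjClasses.mk_eq_mk_iff_isConj.1 hab : IsConj _ _)
  exact ConjClasses.mk_eq_mk_iff_isConj.2 (by
    simpa using MonoidHom.map_isConj (Subgroup.topEquiv : (⊤ : Subgroup X) ≃* X).toMonoidHom h')

theorem of_card [Finite X] {c : ℕ} (h : Nat.card X ≤ c) : FB X c := fun Y =>
  (Nat.card_le_card_of_surjective _ ConjClasses.mk_surjective).trans
    (Y.card_le_card_group.trans h)

theorem of_surjective [Finite X'] {c : ℕ} (f : X' →* X) (hf : Function.Surjective f)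
    (h : FB X' c) : FB X c := fun Y => by
  refine le_trans ?_ (h (Y.comap f))
  refine Nat.card_le_card_of_surjective _ (ConjClasses.map_surjective (f := f.subgroupComap Y) ?_)
  rintro ⟨y, hy⟩
  obtain ⟨x, rfl⟩ := hf y
  exact ⟨⟨x, hy⟩, rfl⟩

theorem of_injective [Finite X] {c : ℕ} (f : X →* X') (hf : Function.Injective f)
    (h : FB X' c) : FB X c := fun Y => by
  let e := Y.equivMapOfInjective f hf
  haveI : Finite (Y.map f) := Finite.of_equiv _ e.toEquiv
  exact le_trans (Nat.card_le_card_of_surjective _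
    (ConjClasses.map_surjective (f := e.symm.toMonoidHom) e.symm.surjective)) (h (Y.map f))

/-- Extensions. -/
theorem ext [Finite X] {a b : ℕ} (f : X →* X') (ha : FB f.ker a) (hb : FB X' b) :
    FB X (a * b) := fun Y => by
  set g := f.comp Y.subtype with hg
  refine (card_classes_le_mul g.ker).trans (Nat.mul_le_mul ?_ ?_)
  · refine FB.top (FB.of_injective
      ((Y.subtype.comp g.ker.subtype).codRestrict f.ker fun y => y.2) ?_ ha)
    intro u v huv
    have h' := congrArg (fun z : f.ker => (z : X)) huv
    exact Subtype.ext (Subtype.ext h')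
  · haveI : Finite g.range := Finite.of_surjective g.rangeRestrict g.rangeRestrict_surjective
    refine le_trans ?_ (hb g.range)
    exact Nat.card_le_card_of_surjective _ (ConjClasses.map_surjective
      (f := (QuotientGroup.quotientKerEquivRange g).symm.toMonoidHom) (MulEquiv.surjective _))

theorem ext_quotient [Finite X] {a b : ℕ} (N : Subgroup X) [N.Normal] (ha : FB N a)
    (hb : FB (X ⧸ N) b) : FB X (a * b) :=
  FB.ext (QuotientGroup.mk' N) ((QuotientGroup.ker_mk' N).symm ▸ ha) hb

theorem prod [Finite X] [Finite X'] {a b : ℕ} (ha : FB X a) (hb : FB X' b) :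
    FB (X × X') (a * b) := by
  rw [mul_comm]
  refine FB.ext (MonoidHom.fst X X') ?_ ha
  refine FB.of_injective ((MonoidHom.snd X X').comp (MonoidHom.fst X X').ker.subtype) ?_ hb
  intro u v huv
  exact Subtype.ext (Prod.ext (u.2.trans v.2.symm) huv)

theorem pi_fin : ∀ (n : ℕ) (Z : Fin n → Type) [∀ i, Group (Z i)] [∀ i, Finite (Z i)]
    (c : Fin n → ℕ), (∀ i, FB (Z i) (c i)) → FB (∀ i, Z i) (∏ i, c i)
  | 0, Z, _, _, c, _ => FB.of_card (by simp)
  | n + 1, Z, _, _, c, h => by
    rw [Fin.prod_univ_succ]
    refine FB.of_injective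
      (MonoidHom.prod (Pi.evalMonoidHom Z 0)
        (MonoidHom.mk' (fun x i => x (Fin.succ i)) fun _ _ => rfl)) ?_
      (FB.prod (h 0) (pi_fin n (fun i => Z i.succ) (fun i => c i.succ) fun i => h i.succ))
    intro u v huv
    funext i
    refine Fin.cases (congrArg Prod.fst huv) (fun j => congrFun (congrArg Prod.snd huv) j) i

theorem pi {ι : Type*} [Fintype ι] {Z : ι → Type} [∀ i, Group (Z i)] [∀ i, Finite (Z i)]
    {c : ι → ℕ} (h : ∀ i, FB (Z i) (c i)) : FB (∀ i, Z i) (∏ i, c i) := by
  let e := (Fintype.equivFin ι).symm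
  rw [← e.prod_comp]
  refine FB.of_injective (MonoidHom.mk' (fun x k => x (e k)) fun _ _ => rfl) ?_
    (pi_fin _ (fun k => Z (e k)) (fun k => c (e k)) fun k => h (e k))
  intro u v huv
  funext i
  obtain ⟨k, rfl⟩ := e.surjective i
  exact congrFun huv k

/-- An injection into a product. -/
theorem of_family {ι : Type*} [Fintype ι] [Finite X] {Z : ι → Type} [∀ i, Group (Z i)]
    [∀ i, Finite (Z i)] {c : ι → ℕ} (f : ∀ i, X →* Z i)
    (hf : ∀ x, (∀ i, f i x = 1) → x = 1) (h : ∀ i, FB (Z i) (c i)) : FB X (∏ i, c i) :=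
  FB.of_injective (MonoidHom.pi f)
    ((injective_iff_map_eq_one _).2 fun x hx => hf x fun i => congrFun hx i) (FB.pi h)

end FB

end CfsgLib.Solvable.LinearClasses
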