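import Cfsg.Agent.Lib.Solvable.LinearClasses.Small
import Cfsg.Agent.Lib.Perm.OddBase.Idem
import Cfsg.Agent.Lib.Perm.OddBase.SmallImage

/-!
# Class bounds for linear groups: reducible and imprimitive modules
-/

set_option autoImplicit false

namespace CfsgLib.Solvable.LinearClasses

open CfsgLib.Perm.OddBase (Invariant IsCR IsIrred subAction isCR_sub isCR_normal isCR_of_irred)

variable {G V : Type} [Group G] [Finite G] [AddCommGroup V] [Finite V] [DistribMulAction G V]
  [FaithfulSMul G V]

/-- Two invariant complementary subgroups. -/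
theorem fb_two {a b : ℕ} (U Z : AddSubgroup V) (hU : Invariant G V U) (hZ : Invariant G V Z)
    (htop : U ⊔ Z = ⊤)
    (ha : @FB (@toUnits G U _ _ (subAction U hU)).range _ a)
    (hb : @FB (@toUnits G Z _ _ (subAction Z hZ)).range _ b) : FB G (a * b) := by
  letI := subAction U hU
  letI := subAction Z hZ
  haveI := finite_range (G := G) (W := U)
  haveI := finite_range (G := G) (W := Z)
  refine FB.of_injective
    (MonoidHom.prod (toUnits G U).rangeRestrict (toUnits G Z).rangeRestrict) ?_ (FB.prod ha hb)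
  refine (injective_iff_map_eq_one _).2 fun g hg =>
    FaithfulSMul.eq_of_smul_eq_smul (α := V) fun x => ?_
  obtain ⟨u, hu, z, hz, rfl⟩ := AddSubgroup.mem_sup.1 (show x ∈ U ⊔ Z by rw [htop]; trivial)
  have h1 : (toUnits G U).rangeRestrict g = 1 := congrArg Prod.fst hg
  have h2 : (toUnits G Z).rangeRestrict g = 1 := congrArg Prod.snd hg
  have e1 : g • (⟨u, hu⟩ : U) = ⟨u, hu⟩ := by rw [← rangeRestrict_smul, h1, one_smul]
  have e2 : g • (⟨z, hz⟩ : Z) = ⟨z, hz⟩ := by rw [← rangeRestrict_smul, h2, one_smul]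
  rw [smul_add, one_smul]
  exact congrArg₂ (· + ·) (congrArg Subtype.val e1) (congrArg Subtype.val e2)

theorem card_mul_of_compl {U Z : AddSubgroup V} (hbot : U ⊓ Z = ⊥) (htop : U ⊔ Z = ⊤) :
    Nat.card U * Nat.card Z = Nat.card V := by
  rw [← Nat.card_prod]
  refine Nat.card_congr (Equiv.ofBijective (fun p : U × Z => (p.1 : V) + p.2) ⟨fun a b h => ?_, fun x => ?_⟩)
  · exact AddSubgroup.add_injective_of_disjoint (disjoint_iff.2 hbot) h
  · obtain ⟨u, hu, z, hz, rfl⟩ := AddSubgroup.mem_sup.1 (show x ∈ U ⊔ Z by rw [htop]; trivial)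
    exact ⟨(⟨u, hu⟩, ⟨z, hz⟩), rfl⟩

/-- The bound in the reducible case. -/
theorem fb_of_reducible (hs : Group.IsSolvable G) (hcr : IsCR G V) (hred : ¬ IsIrred G V)
    (IH : LinBelow (Nat.card V)) :
    ∃ u z, 2 ≤ u ∧ 2 ≤ z ∧ u * z = Nat.card V ∧ FB G (lb u * lb z) := by
  simp only [IsIrred, not_forall, not_or] at hred
  obtain ⟨U, hU, hbot, htop⟩ := hred
  obtain ⟨Z, hZ, h1, h2⟩ := hcr U hU
  have hZbot : Z ≠ ⊥ := by
    rintro rfl
    exact htop (by simpa using h2)
  have htwo : ∀ X : AddSubgroup V, X ≠ ⊥ → 2 ≤ Nat.card X := fun X hX =>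
    X.one_lt_card_iff_ne_bot.2 hX
  have hmul := card_mul_of_compl h1 h2
  refine ⟨Nat.card U, Nat.card Z, htwo U hbot, htwo Z hZbot, hmul, fb_two U Z hU hZ h2 ?_ ?_⟩
  · refine @LinBelow.range G U _ _ (subAction U hU) _ _ _ IH hs (isCR_sub hcr U hU) ?_
    rw [← hmul]
    exact lt_mul_of_one_lt_right Nat.card_pos (htwo Z hZbot)
  · refine @LinBelow.range G Z _ _ (subAction Z hZ) _ _ _ IH hs (isCR_sub hcr Z hZ) ?_
    rw [← hmul]
    exact lt_mul_of_one_lt_left Nat.card_pos (htwo U hbot)

/-- The imprimitive case. -/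
theorem fb_of_blocks (hs : Group.IsSolvable G) (hirr : IsIrred G V) {ι : Type} [Fintype ι]
    [MulAction G ι] (π : ι → AddMonoid.End V)
    (hπ : ∀ (g : G) (i : ι) (x : V), π (g • i) (g • x) = g • π i x)
    (hidem : ∀ i x, π i (π i x) = π i x)
    (horth : ∀ i j, i ≠ j → ∀ x, π i (π j x) = 0)
    (hsum : ∀ x, ∑ i, π i x = x)
    (hne : ∀ i, ∃ x, π i x ≠ 0)
    (htwo : ∃ i j : ι, i ≠ j) :
    ∃ v k, 2 ≤ v ∧ 2 ≤ k ∧ v ^ k ≤ Nat.card V ∧ ∀ c d,
      (∀ (H S : Type) [Group H] [Finite H] [AddCommGroup S] [Finite S] [DistribMulAction H S]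
        [FaithfulSMul H S], Group.IsSolvable H → IsCR H S → Nat.card S = v → FB H c) →
      (∀ (H α : Type) [Group H] [Finite H] [Finite α] [MulAction H α] [FaithfulSMul H α],
        Group.IsSolvable H → Nat.card α = k → FB H d) →
      FB G (c ^ k * d) := by
  classical
  obtain ⟨i0, j0, hij⟩ := htwo
  let S : ι → AddSubgroup V := fun i =>
    { carrier := {x | π i x = x}
      zero_mem' := map_zero _
      add_mem' := fun {a b} ha hb => by
        simp only [Set.mem_setOf_eq] at ha hb ⊢
        rw [map_add, ha, hb]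
      neg_mem' := fun {a} ha => by
        simp only [Set.mem_setOf_eq] at ha ⊢
        rw [map_neg, ha] }
  have hS : ∀ i x, x ∈ S i ↔ π i x = x := fun i x => Iff.rfl
  have htrans : ∀ j : ι, ∃ g : G, g • i0 = j := by
    set U : AddSubgroup V :=
      { carrier := {x | ∀ j, (¬ ∃ g : G, g • i0 = j) → π j x = 0}
        zero_mem' := fun j _ => map_zero _
        add_mem' := fun {a b} ha hb j hj => by rw [map_add, ha j hj, hb j hj, add_zero]
        neg_mem' := fun {a} ha j hj => by rw [map_neg, ha j hj, neg_zero] } with hUdef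
    have hU : Invariant G V U := by
      intro g x hx j hj
      have : π (g⁻¹ • j) x = 0 := hx (g⁻¹ • j) (fun ⟨a, ha⟩ => hj ⟨g * a, by
        rw [mul_smul, ha, smul_inv_smul]⟩)
      have e := hπ g (g⁻¹ • j) x
      rw [smul_inv_smul, this, smul_zero] at e
      exact e
    intro j
    by_contra hj
    rcases hirr U hU with h | h
    · obtain ⟨x, hx⟩ := hne i0
      have : π i0 x ∈ U := fun k hk => horth k i0 (fun e => hk ⟨1, by rw [one_smul, e]⟩) x
      rw [h, AddSubgroup.mem_bot] at this
      exact hx this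
    · obtain ⟨x, hx⟩ := hne j
      exact hx ((show x ∈ U by rw [h]; trivial) j hj)
  have heq : ∀ i, Nat.card (S i) = Nat.card (S i0) := by
    intro i
    obtain ⟨g, rfl⟩ := htrans i
    refine Nat.card_congr
      { toFun := fun x => ⟨g⁻¹ • x.1, ?_⟩
        invFun := fun x => ⟨g • x.1, ?_⟩
        left_inv := fun x => Subtype.ext (smul_inv_smul _ _)
        right_inv := fun x => Subtype.ext (inv_smul_smul _ _) }
    · have e := hπ g i0 (g⁻¹ • x.1)
      rw [smul_inv_smul, (hS _ _).1 x.2] at e
      exact (hS _ _).2 (eq_inv_smul_iff.2 e.symm)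
    · refine (hS _ _).2 ?_
      rw [hπ, (hS _ _).1 x.2]
  have hv : 2 ≤ Nat.card (S i0) := by
    obtain ⟨x, hx⟩ := hne i0
    refine (S i0).one_lt_card_iff_ne_bot.2 fun e => hx ?_
    exact AddSubgroup.mem_bot.1 (e ▸ (hS i0 _).2 (hidem i0 x))
  have hk : 2 ≤ Nat.card ι := by
    haveI : Nontrivial ι := ⟨⟨i0, j0, hij⟩⟩
    exact Finite.one_lt_card
  have hprod : Nat.card (S i0) ^ Nat.card ι ≤ Nat.card V := by
    have hinj : Function.Injective (fun f : (∀ i, S i) => ∑ i, (f i : V)) := by
      intro f h hfh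
      funext i
      apply Subtype.ext
      have : ∀ f : (∀ i, S i), π i (∑ j, (f j : V)) = (f i : V) := fun f => by
        rw [map_sum, Finset.sum_eq_single i]
        · exact (hS _ _).1 (f i).2
        · intro j _ hji
          rw [← (hS _ _).1 (f j).2]
          exact horth i j (Ne.symm hji) _
        · simp
      rw [← this f, ← this h]
      exact congrArg (π i) hfh
    have := Nat.card_le_card_of_injective _ hinj
    rwa [Nat.card_pi, Finset.prod_congr rfl (fun i _ => heq i), Finset.prod_const,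
      Finset.card_univ, ← Nat.card_eq_fintype_card] at this
  refine ⟨_, _, hv, hk, hprod, fun c d hc hd => ?_⟩
  set B := (MulAction.toPermHom G ι).ker with hBdef
  have hBfix : ∀ b : B, ∀ i : ι, (b : G) • i = i := fun b i =>
    congrArg (fun e : Equiv.Perm ι => e i) (b.2 : MulAction.toPermHom G ι b.1 = 1)
  have hinv : ∀ i, Invariant B V (S i) := by
    intro i b x hx
    refine (hS _ _).2 ?_
    show π i ((b : G) • x) = (b : G) • x
    conv_lhs => rw [← hBfix b i]
    rw [hπ, (hS _ _).1 hx]
  letI act : ∀ i, DistribMulAction B (S i) := fun i => subAction (S i) (hinv i)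
  haveI hfin : ∀ i, Finite (toUnits B (S i)).range := fun i => finite_range
  haveI := hs
  haveI hsB : Group.IsSolvable B := inferInstance
  have hcrB : IsCR B V := isCR_normal (isCR_of_irred hirr) B
  have hB : FB B (c ^ Nat.card ι) := by
    rw [Nat.card_eq_fintype_card, ← Finset.card_univ, ← Finset.prod_const]
    refine FB.of_family (fun i => (toUnits B (S i)).rangeRestrict) ?_ fun i => ?_
    · intro b hb
      refine Subtype.ext (FaithfulSMul.eq_of_smul_eq_smul (α := V) fun x => ?_)
      show (b : G) • x = (1 : G) • x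
      rw [one_smul, ← hsum x, Finset.smul_sum]
      refine Finset.sum_congr rfl fun i _ => ?_
      have e : b • (⟨π i x, (hS _ _).2 (hidem i x)⟩ : S i) = ⟨π i x, (hS _ _).2 (hidem i x)⟩ := by
        rw [← rangeRestrict_smul, hb i, one_smul]
      exact congrArg Subtype.val e
    · exact hc (toUnits B (S i)).range (S i)
        (Group.isSolvable_of_surjective (toUnits B (S i)).rangeRestrict_surjective)
        (isCR_range (isCR_sub hcrB (S i) (hinv i))) (heq i)
  let ψ := (MulAction.toPermHom G ι).rangeRestrict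
  haveI : Finite (MulAction.toPermHom G ι).range := Finite.of_surjective ψ
    (MulAction.toPermHom G ι).rangeRestrict_surjective
  refine FB.ext ψ (by rw [MonoidHom.ker_rangeRestrict]; exact hB) ?_
  exact hd (MulAction.toPermHom G ι).range ι
    (Group.isSolvable_of_surjective (MonoidHom.rangeRestrict_surjective (MulAction.toPermHom G ι))) rfl

end CfsgLib.Solvable.LinearClasses
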