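import Cfsg.Agent.Lib.Solvable.LinearClasses.PermStep
import Cfsg.Agent.Lib.Solvable.Cores

/-!
# Classes of a solvable complex linear group modulo its Fitting subgroup

A group permuting at least two independent subspaces is reduced to the stabilised constituents and
the permutation group; otherwise every abelian normal subgroup is scalar and the group modulo a
nilpotent normal subgroup of class two acts completely reducibly on a symplectic module.
-/

set_option autoImplicit false
set_option linter.style.haveILetI false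
set_option linter.unusedSectionVars false
set_option maxHeartbeats 1000000

namespace CfsgLib.Solvable.LinearClasses

open CfsgLib.Perm.OddBase (Invariant IsCR IsPairing isCR_normal)
open CfsgLib.Solvable.Cores
open scoped commutatorElement
open Module

theorem gb_le_pow {e : ℕ} (he : 1 ≤ e) : gb e ≤ 3 ^ (e - 1) := by
  rcases Nat.lt_or_ge e 8 with h | h
  · interval_cases e <;> norm_num [gb]
  · rw [gb_large h]
    have h1 := three_lb (n := e * e) (le_trans (by norm_num) (Nat.mul_le_mul h h))
    have key : ∀ n, 8 ≤ n → (n * n) * (n * n) ≤ 3 ^ n := by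
      intro n hn
      induction n, hn using Nat.le_induction with
      | base => norm_num
      | succ n hn ih =>
        have h2 : ((n + 1) * (n + 1)) * ((n + 1) * (n + 1)) ≤ 3 * ((n * n) * (n * n)) := by
          have h3 : 8 * (n + 1) ≤ 9 * n := by omega
          have h4 := Nat.mul_le_mul (Nat.mul_le_mul h3 h3) (Nat.mul_le_mul h3 h3)
          ring_nf at h4 ⊢
          omega
        rw [pow_succ]
        omega
    refine Nat.le_of_mul_le_mul_left ?_ (by norm_num : 0 < 3)
    rw [← pow_succ', Nat.sub_add_cancel he]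
    exact h1.trans (key e h)

/-- The statement in dimensions below `r`. -/
def FittingBelow (r : ℕ) : Prop :=
  ∀ (G V : Type) [Group G] [Finite G] [AddCommGroup V] [Module ℂ V] [FiniteDimensional ℂ V]
    (ρ : G →* Module.End ℂ V), Function.Injective ρ → Group.IsSolvable G →
    finrank ℂ V < r → FB (G ⧸ Cfsg.fittingSubgroup G) (3 ^ (finrank ℂ V - 1))

variable {G V : Type} [Group G] [Finite G] [AddCommGroup V] [Module ℂ V] [FiniteDimensional ℂ V]

theorem rho_inv (ρ : G →* Module.End ℂ V) (g : G) (v : V) : ρ g⁻¹ (ρ g v) = v := by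
  rw [← Module.End.mul_apply, ← map_mul, inv_mul_cancel, map_one, Module.End.one_apply]

/-- An independent spanning family of subspaces permuted by the group. -/
theorem fitting_of_family (ρ : G →* Module.End ℂ V) (hρ : Function.Injective ρ)
    (hs : Group.IsSolvable G) (IH : FittingBelow (finrank ℂ V)) {ι : Type} [Fintype ι]
    [MulAction G ι] (S : ι → Submodule ℂ V) (hind : iSupIndep S) (htop : ⨆ i, S i = ⊤)
    (hne : ∀ i, S i ≠ ⊥) (hmap : ∀ (g : G) (i : ι), ∀ v ∈ S i, ρ g v ∈ S (g • i))
    (htwo : ∃ i j : ι, i ≠ j) :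
    FB (G ⧸ Cfsg.fittingSubgroup G) (3 ^ (finrank ℂ V - 1)) := by
  classical
  haveI := hs
  have hpos : ∀ i, 1 ≤ finrank ℂ (S i) := fun i => Submodule.one_le_finrank_iff.2 (hne i)
  have hsum : ∑ i, finrank ℂ (S i) = finrank ℂ V := by
    have hint : DirectSum.IsInternal S :=
      DirectSum.isInternal_submodule_of_iSupIndep_of_iSup_eq_top hind htop
    rw [← (LinearEquiv.ofBijective (DirectSum.coeLinearMap S) hint).finrank_eq]
    exact (Module.finrank_directSum ℂ fun i => S i).symm
  set B := (MulAction.toPermHom G ι).ker with hBdef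
  have hfix : ∀ (b : B) (i : ι), (b : G) • i = i := fun b i =>
    congrArg (fun e : Equiv.Perm ι => e i) (b.2 : MulAction.toPermHom G ι b.1 = 1)
  have hst : ∀ (b : B) (i : ι), ∀ v ∈ S i, ρ (b : G) v ∈ S i := fun b i v hv => by
    have := hmap b i v hv
    rwa [hfix] at this
  obtain ⟨f, hf⟩ : ∃ f : ∀ i, B →* Module.End ℂ (S i),
      ∀ (i : ι) (b : B) (v : S i), ((f i b v : S i) : V) = ρ (b : G) v :=
    ⟨fun i =>
      { toFun := fun b => (ρ (b : G)).restrict (hst b i)
        map_one' := LinearMap.ext fun v => Subtype.ext (by simp)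
        map_mul' := fun a b => LinearMap.ext fun v => Subtype.ext (by simp) },
      fun _ _ _ => rfl⟩
  haveI hsB : Group.IsSolvable B := inferInstance
  let Fi := fun i => Cfsg.fittingSubgroup (B ⧸ (f i).ker)
  have hlt : ∀ i, finrank ℂ (S i) < finrank ℂ V := fun i => by
    obtain ⟨a, b, hab⟩ := htwo
    obtain ⟨j, hj⟩ : ∃ j, j ≠ i := by
      by_cases h : a = i
      · exact ⟨b, fun e => hab (h.trans e.symm)⟩
      · exact ⟨a, h⟩
    rw [← hsum]
    calc finrank ℂ (S i) < finrank ℂ (S i) + finrank ℂ (S j) := by have := hpos j; omega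
      _ = ∑ k ∈ ({i, j} : Finset ι), finrank ℂ (S k) := by
          rw [Finset.sum_pair (Ne.symm hj)]
      _ ≤ _ := Finset.sum_le_sum_of_subset (Finset.subset_univ _)
  have hIH : ∀ i, FB ((B ⧸ (f i).ker) ⧸ Fi i) (3 ^ (finrank ℂ (S i) - 1)) := fun i =>
    IH (B ⧸ (f i).ker) (S i) (QuotientGroup.lift (f i).ker (f i) fun b hb => hb)
      ((injective_iff_map_eq_one _).2 fun q => QuotientGroup.induction_on q fun b hb =>
        (QuotientGroup.eq_one_iff b).2 hb)
      (Group.isSolvable_of_surjective (QuotientGroup.mk'_surjective (f i).ker)) (hlt i)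
  let qh : ∀ i, B →* (B ⧸ (f i).ker) ⧸ Fi i := fun i =>
    (QuotientGroup.mk' (Fi i)).comp (QuotientGroup.mk' (f i).ker)
  set K := (MonoidHom.pi qh).ker with hKdef
  haveI : K.Normal := MonoidHom.normal_ker _
  have hK : Group.IsNilpotent K := by
    let emb : K →* ∀ i, Fi i := MonoidHom.pi fun i =>
      ((QuotientGroup.mk' (f i).ker).comp K.subtype).codRestrict (Fi i) fun k =>
        (QuotientGroup.eq_one_iff _).1 (congrFun (k.2 : MonoidHom.pi qh k.1 = 1) i)
    have hinj : Function.Injective emb := by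
      refine (injective_iff_map_eq_one _).2 fun k hk => ?_
      refine Subtype.ext (Subtype.ext (hρ ?_))
      show ρ ((k : B) : G) = ρ ((1 : B) : G)
      refine LinearMap.ext fun v => ?_
      rw [OneMemClass.coe_one, map_one, Module.End.one_apply]
      have hv : v ∈ ⨆ i, S i := by rw [htop]; trivial
      induction hv using Submodule.iSup_induction' with
      | mem i x hx =>
        have h1 : (k : B) ∈ (f i).ker :=
          (QuotientGroup.eq_one_iff _).1 (congrArg Subtype.val (congrFun hk i))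
        have h2 := DFunLike.congr_fun (show f i (k : B) = 1 from h1) ⟨x, hx⟩
        exact (hf i k ⟨x, hx⟩).symm.trans (congrArg Subtype.val h2)
      | zero => exact map_zero _
      | add x y _ _ hx hy => rw [map_add, hx, hy]
    exact Group.nilpotent_of_surjective (MonoidHom.ofInjective hinj).symm.toMonoidHom
      (MonoidHom.ofInjective hinj).symm.surjective
  have hBF : FB (B ⧸ Cfsg.fittingSubgroup B) (∏ i, 3 ^ (finrank ℂ (S i) - 1)) := by
    refine FB.of_surjective
      (QuotientGroup.map K (Cfsg.fittingSubgroup B) (MonoidHom.id B) (le_fittingSubgroup hK)) ?_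
      (FB.of_injective (QuotientGroup.kerLift (MonoidHom.pi qh))
        (QuotientGroup.kerLift_injective _) (FB.pi hIH))
    intro q
    induction q using QuotientGroup.induction_on with
    | _ b => exact ⟨(b : B ⧸ K), rfl⟩
  set N := (Cfsg.fittingSubgroup B).map B.subtype with hN
  have hNF : N ≤ Cfsg.fittingSubgroup G := map_fittingSubgroup_le B
  haveI : N.Normal := ConjAct.normal_of_characteristic_of_normal
  have hNB : N ≤ B := Subgroup.map_subtype_le _
  let ψ : G ⧸ N →* (MulAction.toPermHom G ι).range :=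
    QuotientGroup.lift N (MulAction.toPermHom G ι).rangeRestrict fun n hn => Subtype.ext (hNB hn)
  have hker : FB ψ.ker (∏ i, 3 ^ (finrank ℂ (S i) - 1)) := by
    refine FB.of_surjective
      (QuotientGroup.lift (Cfsg.fittingSubgroup B)
        (((QuotientGroup.mk' N).comp B.subtype).codRestrict ψ.ker fun b => Subtype.ext b.2)
        fun b hb => Subtype.ext ((QuotientGroup.eq_one_iff _).2 ⟨b, hb, rfl⟩)) ?_ hBF
    rintro ⟨q, hq⟩
    induction q using QuotientGroup.induction_on with
    | _ g =>
    exact ⟨((⟨g, congrArg Subtype.val (hq : ψ (g : G ⧸ N) = 1)⟩ : B) :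
      B ⧸ Cfsg.fittingSubgroup B), rfl⟩
  haveI : Finite (MulAction.toPermHom G ι).range :=
    Finite.of_surjective _ (MulAction.toPermHom G ι).rangeRestrict_surjective
  have hperm : FB (MulAction.toPermHom G ι).range (3 ^ (Nat.card ι - 1)) :=
    PermBelow.range (lin_perm_bounds (Nat.card ι + 1)).2 hs (Nat.lt_succ_self _)
  refine (FB.of_surjective
    (QuotientGroup.map N (Cfsg.fittingSubgroup G) (MonoidHom.id G) hNF) ?_
    (FB.ext ψ hker hperm)).mono ?_
  · intro q
    induction q using QuotientGroup.induction_on with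
    | _ g => exact ⟨(g : G ⧸ N), rfl⟩
  · rw [Finset.prod_pow_eq_pow_sum, ← pow_add]
    refine Nat.pow_le_pow_right (by norm_num) ?_
    rw [Finset.sum_tsub_distrib (g := fun _ => 1) Finset.univ (fun i _ => hpos i), hsum,
      Finset.sum_const, smul_eq_mul, mul_one, Finset.card_univ, ← Nat.card_eq_fintype_card]
    have h1 : Nat.card ι ≤ finrank ℂ V := by
      rw [← hsum, Nat.card_eq_fintype_card]
      calc Fintype.card ι = ∑ _i : ι, 1 := by simp
        _ ≤ _ := Finset.sum_le_sum fun i _ => hpos i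
    have h2 : 0 < Nat.card ι := by
      obtain ⟨i, _⟩ := htwo
      haveI : Nonempty ι := ⟨i⟩
      exact Nat.card_pos
    omega

/-- Every invariant subspace has an invariant complement. -/
theorem exists_invariant_complement (ρ : G →* Module.End ℂ V) (W : Submodule ℂ V)
    (hW : ∀ g, ∀ w ∈ W, ρ g w ∈ W) :
    ∃ U : Submodule ℂ V, (∀ g, ∀ u ∈ U, ρ g u ∈ U) ∧ IsCompl W U := by
  classical
  haveI : Fintype G := Fintype.ofFinite G
  obtain ⟨q, hq⟩ := W.subtype.exists_leftInverse_of_injective W.ker_subtype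
  set n : ℂ := (Fintype.card G : ℂ) with hn
  have hn0 : n ≠ 0 := Nat.cast_ne_zero.2 Fintype.card_ne_zero
  set π : Module.End ℂ V := n⁻¹ • ∑ g : G, ρ g * (W.subtype.comp q) * ρ g⁻¹ with hπ
  have hπapp : ∀ v, π v = n⁻¹ • ∑ g : G, ρ g ((q (ρ g⁻¹ v) : W) : V) := fun v => by
    rw [hπ, LinearMap.smul_apply, LinearMap.sum_apply]
    rfl
  have hmem : ∀ v, π v ∈ W := fun v => by
    rw [hπapp]
    exact W.smul_mem _ (W.sum_mem fun g _ => hW g _ (q _).2)
  have hid : ∀ w ∈ W, π w = w := fun w hw => by
    rw [hπapp]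
    have : ∀ g : G, ρ g ((q (ρ g⁻¹ w) : W) : V) = w := fun g => by
      have e : q (ρ g⁻¹ w) = ⟨ρ g⁻¹ w, hW _ w hw⟩ :=
        DFunLike.congr_fun hq ⟨ρ g⁻¹ w, hW _ w hw⟩
      rw [e]
      show ρ g (ρ g⁻¹ w) = w
      rw [← Module.End.mul_apply, ← map_mul, mul_inv_cancel, map_one, Module.End.one_apply]
    rw [Finset.sum_congr rfl fun g _ => this g, Finset.sum_const, Finset.card_univ,
      ← Nat.cast_smul_eq_nsmul ℂ, smul_smul, inv_mul_cancel₀ hn0, one_smul]
  have hcomm : ∀ (h : G) (v : V), π (ρ h v) = ρ h (π v) := fun h v => by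
    rw [hπapp, hπapp, map_smul, map_sum]
    congr 1
    refine (Fintype.sum_equiv (Equiv.mulLeft h) _ _ fun g => ?_).symm
    rw [Equiv.coe_mulLeft, map_mul, Module.End.mul_apply, mul_inv_rev, map_mul,
      Module.End.mul_apply, rho_inv]
  refine ⟨LinearMap.ker π, fun g u hu => ?_, ?_, ?_⟩
  · rw [LinearMap.mem_ker] at hu ⊢
    rw [hcomm, hu, map_zero]
  · rw [Submodule.disjoint_def]
    intro x hx hx'
    rw [LinearMap.mem_ker, hid x hx] at hx'
    exact hx'
  · rw [codisjoint_iff, Submodule.eq_top_iff']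
    intro v
    refine Submodule.mem_sup.2 ⟨π v, hmem v, v - π v, ?_, add_sub_cancel _ _⟩
    rw [LinearMap.mem_ker, map_sub, hid _ (hmem v), sub_self]

/-- The scalars of the group. -/
def scalarPart (ρ : G →* Module.End ℂ V) : Subgroup G where
  carrier := {g | ∃ c : ℂ, ρ g = c • 1}
  one_mem' := ⟨1, by rw [map_one, one_smul]⟩
  mul_mem' := fun {a b} ⟨c, hc⟩ ⟨d, hd⟩ => ⟨c * d, by
    rw [map_mul, hc, hd, smul_mul_smul_comm, one_mul]⟩
  inv_mem' := fun {a} ⟨c, hc⟩ => by
    rcases subsingleton_or_nontrivial (Module.End ℂ V) with h | h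
    · exact ⟨1, Subsingleton.elim _ _⟩
    have h1 : ρ a⁻¹ * ρ a = 1 := by rw [← map_mul, inv_mul_cancel, map_one]
    rw [hc, mul_smul_comm, mul_one] at h1
    refine ⟨c⁻¹, ?_⟩
    have hc0 : c ≠ 0 := fun e => by
      rw [e, zero_smul] at h1
      exact zero_ne_one h1
    rw [← h1, smul_smul, inv_mul_cancel₀ hc0, one_smul]

/-- An abelian normal subgroup which is not scalar gives a family of weight spaces. -/
theorem fitting_of_weights (ρ : G →* Module.End ℂ V) (hρ : Function.Injective ρ)
    (hs : Group.IsSolvable G) (IH : FittingBelow (finrank ℂ V))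
    (A : Subgroup G) [A.Normal] (hA : ∀ a ∈ A, ∀ b ∈ A, a * b = b * a)
    (hAs : ¬ A ≤ scalarPart ρ) : FB (G ⧸ Cfsg.fittingSubgroup G) (3 ^ (finrank ℂ V - 1)) := by
  classical
  let φ : A → Module.End ℂ V := fun a => ρ (a : G)
  have hss : ∀ a : A, (φ a).IsFinitelySemisimple := fun a => by
    refine Module.End.isFinitelySemisimple_iff_isSemisimple.2 ?_
    refine Module.End.isSemisimple_of_squarefree_aeval_eq_zero
      (p := (Polynomial.X ^ Nat.card G - 1 : Polynomial ℂ)) ?_ ?_
    · refine Polynomial.Separable.squarefree ?_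
      rw [← map_one Polynomial.C]
      exact Polynomial.separable_X_pow_sub_C _ (Nat.cast_ne_zero.2 Nat.card_pos.ne') one_ne_zero
    · simp only [map_sub, map_pow, Polynomial.aeval_X, map_one, φ]
      rw [← map_pow, pow_card_eq_one', map_one, sub_self]
  let T : (A → ℂ) → Submodule ℂ V := fun χ => ⨅ a, (φ a).maxGenEigenspace (χ a)
  have hcomm : ∀ a b : A, Commute (φ a) (φ b) := fun a b => by
    show ρ a * ρ b = ρ b * ρ a
    rw [← map_mul, ← map_mul, hA a a.2 b b.2]
  have hind : iSupIndep T := Module.End.independent_iInf_maxGenEigenspace_of_forall_mapsTo φ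
    fun a b c => Module.End.mapsTo_maxGenEigenspace_of_comm (hcomm b a) c
  have htop : ⨆ χ, T χ = ⊤ :=
    Module.End.iSup_iInf_maxGenEigenspace_eq_top_of_iSup_maxGenEigenspace_eq_top_of_commute φ
      (fun a b _ => hcomm a b) fun a => Module.End.iSup_maxGenEigenspace_eq_top _
  have hmem : ∀ χ v, v ∈ T χ ↔ ∀ a : A, ρ (a : G) v = χ a • v := fun χ v => by
    simp only [T, Submodule.mem_iInf, (hss _).maxGenEigenspace_eq_eigenspace,
      Module.End.mem_eigenspace_iff, φ]
  let cj : G → A → A := fun g a =>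
    ⟨g⁻¹ * a * g, by simpa using Subgroup.Normal.conj_mem inferInstance _ a.2 g⁻¹⟩
  have hmap : ∀ (g : G) χ, ∀ v ∈ T χ, ρ g v ∈ T fun a => χ (cj g a) := by
    intro g χ v hv
    refine (hmem _ _).2 fun a => ?_
    have h1 := (hmem χ v).1 hv (cj g a)
    calc ρ (a : G) (ρ g v) = ρ g (ρ (g⁻¹ * a * g) v) := by
          rw [← Module.End.mul_apply, ← Module.End.mul_apply, ← map_mul, ← map_mul]
          congr 2; group
      _ = ρ g (χ (cj g a) • v) := by rw [← h1]
      _ = _ := map_smul _ _ _
  let ι := {χ : A → ℂ // T χ ≠ ⊥}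
  haveI : Finite ι := (WellFoundedGT.finite_ne_bot_of_iSupIndep hind).to_subtype
  haveI : Fintype ι := Fintype.ofFinite ι
  have hne : ∀ (g : G) (χ : ι), T (fun a => χ.1 (cj g a)) ≠ ⊥ := fun g χ h => by
    refine χ.2 ((Submodule.eq_bot_iff _).2 fun v hv => ?_)
    have h1 := hmap g χ.1 v hv
    rw [h, Submodule.mem_bot] at h1
    rw [← rho_inv ρ g v, h1, map_zero]
  letI : MulAction G ι :=
    { smul := fun g χ => ⟨fun a => χ.1 (cj g a), hne g χ⟩
      one_smul := fun χ => Subtype.ext (funext fun a => congrArg χ.1 (Subtype.ext (by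
        show (1 : G)⁻¹ * a * 1 = a
        simp)))
      mul_smul := fun g h χ => Subtype.ext (funext fun a => congrArg χ.1 (Subtype.ext (by
        show (g * h)⁻¹ * a * (g * h) = h⁻¹ * (g⁻¹ * a * g) * h
        group))) }
  have htop' : ⨆ χ : ι, T χ.1 = ⊤ := by rw [iSup_ne_bot_subtype]; exact htop
  refine fitting_of_family ρ hρ hs IH (fun χ : ι => T χ.1) (hind.comp Subtype.val_injective) htop'
    (fun χ => χ.2) (fun g χ v hv => hmap g χ.1 v hv) ?_
  by_contra hone
  push Not at hone
  refine hAs fun a ha => ?_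
  rcases isEmpty_or_nonempty ι with hι | ⟨⟨χ⟩⟩
  · rw [iSup_of_empty] at htop'
    refine ⟨1, LinearMap.ext fun v => ?_⟩
    have hv : v ∈ (⊥ : Submodule ℂ V) := by rw [htop']; trivial
    rw [(Submodule.mem_bot ℂ).1 hv, map_zero, map_zero]
  · refine ⟨χ.1 ⟨a, ha⟩, LinearMap.ext fun v => ?_⟩
    have hv : v ∈ T χ.1 := by
      have hle : ⨆ ψ : ι, T ψ.1 ≤ T χ.1 := iSup_le fun ψ => (hone ψ χ) ▸ le_rfl
      rw [htop'] at hle
      exact hle trivial
    exact (hmem _ v).1 hv ⟨a, ha⟩

/-- Every abelian normal subgroup is scalar. -/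
theorem fitting_of_scalar (ρ : G →* Module.End ℂ V) (hρ : Function.Injective ρ)
    (hs : Group.IsSolvable G) (hr : 1 ≤ finrank ℂ V)
    (hall : ∀ A : Subgroup G, A.Normal → (∀ a ∈ A, ∀ b ∈ A, a * b = b * a) → A ≤ scalarPart ρ) :
    FB (G ⧸ Cfsg.fittingSubgroup G) (3 ^ (finrank ℂ V - 1)) := by
  classical
  haveI := hs
  set r := finrank ℂ V with hr'
  set U := scalarPart ρ with hUdef
  have hUc : ∀ u ∈ U, ∀ g : G, u * g = g * u := fun u ⟨c, hc⟩ g => hρ (by
    rw [map_mul, map_mul, hc, smul_mul_assoc, mul_smul_comm, one_mul, mul_one])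
  haveI hUn : U.Normal := ⟨fun u hu g => by rw [← hUc u hu g]; simpa using hu⟩
  let ψ : G → ℂ := fun g => (r : ℂ)⁻¹ * LinearMap.trace ℂ V (ρ g)
  have hr0 : (r : ℂ) ≠ 0 := Nat.cast_ne_zero.2 (by omega)
  have hψU : ∀ u ∈ U, ρ u = ψ u • 1 := by
    rintro u ⟨c, hc⟩
    have : ψ u = c := by
      simp only [ψ, hc, map_smul, LinearMap.trace_one, smul_eq_mul]
      rw [← hr', mul_comm c, ← mul_assoc, inv_mul_cancel₀ hr0, one_mul]
    rw [this, hc]
  have hψmul : ∀ a ∈ U, ∀ b, ψ (a * b) = ψ a * ψ b := by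
    intro a ha b
    show (r : ℂ)⁻¹ * LinearMap.trace ℂ V (ρ (a * b)) = ψ a * ((r : ℂ)⁻¹ * LinearMap.trace ℂ V (ρ b))
    rw [map_mul, hψU a ha, smul_mul_assoc, one_mul, map_smul, smul_eq_mul]
    ring
  have hψone : ψ 1 = 1 := by
    simp only [ψ, map_one, LinearMap.trace_one]
    rw [← hr', inv_mul_cancel₀ hr0]
  have hψinj : ∀ u ∈ U, ψ u = 1 → u = 1 := fun u hu h => hρ (by
    rw [hψU u hu, h, one_smul, map_one])
  -- the subgroup `M`
  obtain ⟨M, ⟨hMn, hUM, hMcomm⟩, hMmax⟩ := Set.exists_max_image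
    {M : Subgroup G | M.Normal ∧ U ≤ M ∧ ∀ a ∈ M, ∀ b ∈ M, ⁅a, b⁆ ∈ U}
    (fun M => Nat.card M) (Set.toFinite _) ⟨U, hUn, le_rfl, fun a ha b hb => by
      rw [commutatorElement_eq_one_iff_mul_comm.2 (hUc a ha b)]; exact U.one_mem⟩
  haveI := hMn
  have hD : Subgroup.centralizer (M : Set G) ≤ U := by
    set D := Subgroup.centralizer (M : Set G) with hDdef
    haveI hDn : D.Normal := ⟨fun c hc g =>
      Subgroup.mem_centralizer_iff.2 fun u hu => by
        have h2 := Subgroup.mem_centralizer_iff.1 hc (g⁻¹ * u * g)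
          (by simpa using Subgroup.Normal.conj_mem hMn u hu g⁻¹)
        calc u * (g * c * g⁻¹) = g * ((g⁻¹ * u * g) * c) * g⁻¹ := by group
          _ = g * (c * (g⁻¹ * u * g)) * g⁻¹ := by rw [h2]
          _ = g * c * g⁻¹ * u := by group⟩
    by_contra hne
    obtain ⟨S, hS0, hSsucc⟩ : ∃ S : ℕ → Subgroup G, S 0 = D ∧ ∀ n, S (n + 1) = ⁅S n, S n⁆ :=
      ⟨fun n => Nat.rec D (fun _ A => ⁅A, A⁆) n, rfl, fun _ => rfl⟩
    have hSn : ∀ n, (S n).Normal ∧ S n ≤ D ∧ S n ≤ derivedSeries G n := by
      intro n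
      induction n with
      | zero => rw [hS0]; exact ⟨hDn, le_rfl, le_top⟩
      | succ n ih =>
        haveI := ih.1
        rw [hSsucc]
        refine ⟨Subgroup.commutator_normal _ _, ?_, ?_⟩
        · exact le_trans (Subgroup.commutator_le_left (H₁ := S n) (H₂ := S n)) ih.2.1
        · exact Subgroup.commutator_mono ih.2.2 ih.2.2
    obtain ⟨N0, hN0⟩ := Group.IsSolvable.solvable (G := G)
    have hbot : S N0 ≤ U := ((hSn N0).2.2.trans hN0.le).trans bot_le
    obtain ⟨i, hi, hi'⟩ : ∃ i, ¬ S i ≤ U ∧ S (i + 1) ≤ U := by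
      by_contra hall'
      push Not at hall'
      have : ∀ i, ¬ S i ≤ U := fun i => by
        induction i with
        | zero => rw [hS0]; exact hne
        | succ i ih => exact hall' i ih
      exact this N0 hbot
    haveI := (hSn i).1
    have hND : ∀ x ∈ S i, ∀ m ∈ M, x * m = m * x := fun x hx m hm =>
      (Subgroup.mem_centralizer_iff.1 ((hSn i).2.1 hx) m hm).symm
    haveI : (M ⊔ S i).Normal := Subgroup.sup_normal _ _
    have hMS : M ⊔ S i = M := (Subgroup.eq_of_le_of_card_ge le_sup_left (hMmax _ ⟨inferInstance,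
      hUM.trans le_sup_left, by
        intro a ha b hb
        obtain ⟨m, hm, n, hn, rfl⟩ := Subgroup.mem_sup_of_normal_right.1 ha
        obtain ⟨m', hm', n', hn', rfl⟩ := Subgroup.mem_sup_of_normal_right.1 hb
        have hc : ⁅n, n'⁆ ∈ U := hi' (hSsucc i ▸ Subgroup.commutator_mem_commutator hn hn')
        have e : ⁅m * n, m' * n'⁆ = ⁅m, m'⁆ * ⁅n, n'⁆ := by
          have a1 : m * n * (m' * n') = m * m' * (n * n') := by
            rw [mul_assoc m n, ← mul_assoc n m' n', hND n hn m' hm']; group
          have a2 : m' * n' * (m * n) = m' * m * (n' * n) := by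
            rw [mul_assoc m' n', ← mul_assoc n' m n, hND n' hn' m hm]; group
          calc ⁅m * n, m' * n'⁆ = (m * n * (m' * n')) * (m' * n' * (m * n))⁻¹ := by
                rw [commutatorElement_def]; group
            _ = (m * m' * (n * n')) * (m' * m * (n' * n))⁻¹ := by rw [a1, a2]
            _ = m * m' * (⁅n, n'⁆ * (m' * m)⁻¹) := by rw [commutatorElement_def]; group
            _ = m * m' * ((m' * m)⁻¹ * ⁅n, n'⁆) := by rw [hUc _ hc]
            _ = ⁅m, m'⁆ * ⁅n, n'⁆ := by rw [commutatorElement_def m m']; group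
        rw [e]
        exact U.mul_mem (hMcomm m hm m' hm') hc⟩)).symm
    exact hi (hall (S i) (hSn i).1 fun a ha b hb =>
      hND a ha b (hMS ▸ (le_sup_right : S i ≤ M ⊔ S i) hb))
  -- the quotient `W = M / U`
  haveI : (U.subgroupOf M).Normal := Subgroup.Normal.subgroupOf hUn M
  letI : CommGroup (M ⧸ U.subgroupOf M) :=
    { (inferInstance : Group (M ⧸ U.subgroupOf M)) with
      mul_comm := fun a b => by
        induction a using QuotientGroup.induction_on with
        | _ a =>
        induction b using QuotientGroup.induction_on with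
        | _ b =>
        rw [← QuotientGroup.mk_mul, ← QuotientGroup.mk_mul, QuotientGroup.eq,
          Subgroup.mem_subgroupOf]
        have := hMcomm _ (inv_mem b.2) _ (inv_mem a.2)
        have e : (((a * b)⁻¹ * (b * a) : M) : G) = ⁅(b : G)⁻¹, (a : G)⁻¹⁆ := by
          push_cast
          rw [commutatorElement_def]; group
        rw [e]; exact this }
  let W := Additive (M ⧸ U.subgroupOf M)
  let mk : M → W := fun m => Additive.ofMul (QuotientGroup.mk m)
  have mk_surj : ∀ w : W, ∃ m, mk m = w := fun w =>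
    QuotientGroup.mk_surjective (Additive.toMul w)
  have mk_eq_zero : ∀ m : M, mk m = 0 ↔ (m : G) ∈ U := fun m => by
    show QuotientGroup.mk m = (1 : M ⧸ U.subgroupOf M) ↔ _
    rw [QuotientGroup.eq_one_iff, Subgroup.mem_subgroupOf]
  let cq : G → (M ⧸ U.subgroupOf M →* M ⧸ U.subgroupOf M) := fun g =>
    QuotientGroup.map _ _ (MulAut.conjNormal g : MulAut M).toMonoidHom (by
      intro m hm
      rw [Subgroup.mem_subgroupOf] at hm
      show ((MulAut.conjNormal g m : M) : G) ∈ U
      rw [MulAut.conjNormal_apply]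
      exact Subgroup.Normal.conj_mem hUn _ hm g)
  letI actW : DistribMulAction G W :=
    { smul := fun g w => Additive.ofMul (cq g (Additive.toMul w))
      one_smul := fun w => by
        obtain ⟨m, rfl⟩ := mk_surj w
        show Additive.ofMul (QuotientGroup.mk (MulAut.conjNormal (1 : G) m : M)) = _
        rw [map_one]; rfl
      mul_smul := fun g k w => by
        obtain ⟨m, rfl⟩ := mk_surj w
        show Additive.ofMul (QuotientGroup.mk (MulAut.conjNormal (g * k) m : M)) = _
        rw [map_mul]; rfl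
      smul_zero := fun g => congrArg Additive.ofMul (map_one (cq g))
      smul_add := fun g v w => congrArg Additive.ofMul (map_mul (cq g) _ _) }
  have hactW : ∀ g (m : M), g • mk m = mk (MulAut.conjNormal g m) := fun _ _ => rfl
  let bK : M → M → ℂ := fun a b => ψ ⁅(a : G), (b : G)⁆
  have hleft : ∀ a b c : M, bK (a * b) c = bK a c * bK b c := by
    intro a b c
    show ψ _ = ψ _ * ψ _
    rw [← hψmul _ (hMcomm _ a.2 _ c.2)]
    congr 1
    have e := hUc _ (hMcomm _ b.2 _ c.2)
    calc ⁅((a * b : M) : G), (c : G)⁆ = ((a : G) * ⁅(b : G), (c : G)⁆) * (a : G)⁻¹ *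
          ⁅(a : G), (c : G)⁆ := by
            push_cast
            rw [commutatorElement_def, commutatorElement_def, commutatorElement_def]; group
      _ = ⁅(b : G), (c : G)⁆ * ⁅(a : G), (c : G)⁆ := by rw [← e]; group
      _ = _ := e _
  have hswap : ∀ a b : M, bK a b * bK b a = 1 := fun a b => by
    show ψ _ * ψ _ = 1
    rw [← hψmul _ (hMcomm _ a.2 _ b.2), ← commutatorElement_inv (b : G) (a : G), inv_mul_cancel,
      hψone]
  have hnull : ∀ u b : M, (u : G) ∈ U → bK u b = 1 := fun u b hu => by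
    show ψ _ = 1
    rw [commutatorElement_eq_one_iff_mul_comm.2 (hUc _ hu _), hψone]
  have hnull' : ∀ u b : M, (u : G) ∈ U → bK b u = 1 := fun u b hu => by
    have := hswap b u
    rwa [hnull u b hu, mul_one] at this
  have hright : ∀ a b c : M, bK a (b * c) = bK a b * bK a c := fun a b c => by
    have h1 := hswap a (b * c)
    rw [hleft] at h1
    calc bK a (b * c) = bK a (b * c) * ((bK a b * bK b a) * (bK a c * bK c a)) := by
          rw [hswap, hswap, mul_one, mul_one]
      _ = bK a (b * c) * (bK b a * bK c a) * (bK a b * bK a c) := by ring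
      _ = bK a b * bK a c := by rw [h1, one_mul]
  let β : W → W → ℂ := fun v w => Quotient.liftOn₂ (Additive.toMul v) (Additive.toMul w) bK (by
    intro a b a' b' ha hb
    replace ha := QuotientGroup.leftRel_apply.1 ha
    replace hb := QuotientGroup.leftRel_apply.1 hb
    rw [Subgroup.mem_subgroupOf] at ha hb
    obtain ⟨u, rfl⟩ : ∃ u, a' = a * u := ⟨a⁻¹ * a', by group⟩
    obtain ⟨v, rfl⟩ : ∃ v, b' = b * v := ⟨b⁻¹ * b', by group⟩
    rw [inv_mul_cancel_left] at ha hb
    rw [hleft, hright, hright, hnull u _ ha, hnull u _ ha, hnull' v _ hb]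
    simp only [mul_one])
  have hβmk : ∀ a b, β (mk a) (mk b) = bK a b := fun _ _ => rfl
  have hbK1 : ∀ a b : M, bK a b = 1 ↔ ⁅(a : G), (b : G)⁆ = 1 := fun a b =>
    ⟨fun h => hψinj _ (hMcomm _ a.2 _ b.2) h, fun h => by show ψ _ = 1; rw [h, hψone]⟩
  have hconjcomm : ∀ (g : G) (a b : M),
      ⁅((MulAut.conjNormal g a : M) : G), ((MulAut.conjNormal g b : M) : G)⁆ =
        g * ⁅(a : G), (b : G)⁆ * g⁻¹ := fun g a b => by
    rw [MulAut.conjNormal_apply, MulAut.conjNormal_apply, commutatorElement_def,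
      commutatorElement_def]
    group
  have hpair : IsPairing G β :=
    { add_left := fun x y z => by
        obtain ⟨a, rfl⟩ := mk_surj x
        obtain ⟨b, rfl⟩ := mk_surj y
        obtain ⟨c, rfl⟩ := mk_surj z
        show β (mk (a * b)) (mk c) = _
        rw [hβmk, hβmk, hβmk, hleft]
      add_right := fun x y z => by
        obtain ⟨a, rfl⟩ := mk_surj x
        obtain ⟨b, rfl⟩ := mk_surj y
        obtain ⟨c, rfl⟩ := mk_surj z
        show β (mk a) (mk (b * c)) = _
        rw [hβmk, hβmk, hβmk, hright]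
      self := fun x => by
        obtain ⟨a, rfl⟩ := mk_surj x
        exact (hbK1 a a).2 (commutatorElement_self _)
      nondeg := fun x hx => by
        obtain ⟨a, rfl⟩ := mk_surj x
        refine (mk_eq_zero a).2 (hD (Subgroup.mem_centralizer_iff.2 fun m hm => ?_))
        exact (commutatorElement_eq_one_iff_mul_comm.1 ((hbK1 a ⟨m, hm⟩).1 (hx (mk ⟨m, hm⟩)))).symm
      invariant := fun g x y h => by
        obtain ⟨a, rfl⟩ := mk_surj x
        obtain ⟨b, rfl⟩ := mk_surj y
        rw [hactW, hactW, hβmk, hbK1, hconjcomm]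
        rw [hβmk, hbK1] at h
        rw [h, mul_one, mul_inv_cancel]
      no_isotropic := fun Y hY hiso => by
        set N : Subgroup G :=
          { carrier := {g | ∃ h : g ∈ M, mk ⟨g, h⟩ ∈ Y}
            one_mem' := ⟨M.one_mem, Y.zero_mem⟩
            mul_mem' := fun {a b} ⟨ha, ha'⟩ ⟨hb, hb'⟩ => ⟨M.mul_mem ha hb, Y.add_mem ha' hb'⟩
            inv_mem' := fun {a} ⟨ha, ha'⟩ => ⟨M.inv_mem ha, Y.neg_mem ha'⟩ } with hN
        have hNle : N ≤ U := by
          refine hall N ⟨fun n ⟨hn, hn'⟩ g => ⟨Subgroup.Normal.conj_mem hMn n hn g, ?_⟩⟩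
            (fun a ⟨ha, ha'⟩ b ⟨hb, hb'⟩ => ?_)
          · have e : (MulAut.conjNormal g ⟨n, hn⟩ : M) =
                ⟨g * n * g⁻¹, Subgroup.Normal.conj_mem hMn n hn g⟩ :=
              Subtype.ext (MulAut.conjNormal_apply g ⟨n, hn⟩)
            exact e ▸ hY g _ hn'
          · exact commutatorElement_eq_one_iff_mul_comm.1
              ((hbK1 ⟨a, ha⟩ ⟨b, hb⟩).1 (hiso _ ha' _ hb'))
        refine (AddSubgroup.eq_bot_iff_forall _).2 fun x hx => ?_
        obtain ⟨a, rfl⟩ := mk_surj x
        exact (mk_eq_zero a).2 (hNle (⟨a.2, hx⟩ : (a : G) ∈ N)) }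
  obtain ⟨e, hWe⟩ := hpair.card_square
  -- the dimension
  have htr : ∀ m ∈ M, m ∉ U → LinearMap.trace ℂ V (ρ m) = 0 := by
    intro m hm hmU
    obtain ⟨n, hn, hne⟩ : ∃ n ∈ M, ⁅n, m⁆ ≠ 1 := by
      by_contra hc
      push Not at hc
      exact hmU (hD (Subgroup.mem_centralizer_iff.2 fun n hn =>
        commutatorElement_eq_one_iff_mul_comm.1 (hc n hn)))
    have hu := hMcomm n hn m hm
    have e : ρ (n * m * n⁻¹) = ψ ⁅n, m⁆ • ρ m := by
      rw [show n * m * n⁻¹ = ⁅n, m⁆ * m by rw [commutatorElement_def]; group, map_mul, hψU _ hu,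
        smul_mul_assoc, one_mul]
    have h1 : LinearMap.trace ℂ V (ρ (n * m * n⁻¹)) = LinearMap.trace ℂ V (ρ m) := by
      rw [map_mul, LinearMap.trace_mul_comm, ← map_mul]
      congr 2; group
    rw [e, map_smul, smul_eq_mul] at h1
    by_contra h0
    exact hne (hψinj _ hu ((mul_eq_right₀ h0).1 h1))
  have her : e ≤ r := by
    haveI : Fintype W := Fintype.ofFinite W
    choose s hs' using (fun w : W => mk_surj w)
    have hli : LinearIndependent ℂ (fun w : W => ρ ((s w : M) : G)) := by
      rw [Fintype.linearIndependent_iff]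
      intro c hc w0
      have h1 := congrArg (fun T => LinearMap.trace ℂ V (ρ ((s w0 : M) : G)⁻¹ * T)) hc
      simp only [mul_zero, map_zero, Finset.mul_sum, map_sum, mul_smul_comm, map_smul, smul_eq_mul,
        ← map_mul] at h1
      rw [Finset.sum_eq_single w0] at h1
      · rw [inv_mul_cancel, map_one, LinearMap.trace_one] at h1
        exact (mul_eq_zero.1 h1).resolve_right hr0
      · intro w _ hw
        rw [htr _ (M.mul_mem (M.inv_mem (s w0).2) (s w).2) fun hmem => hw ?_, mul_zero]
        rw [← hs' w, ← hs' w0]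
        exact congrArg Additive.ofMul (QuotientGroup.eq.2 (Subgroup.mem_subgroupOf.2 hmem)).symm
      · simp
    have := hli.fintype_card_le_finrank
    rw [Module.finrank_linearMap, ← Nat.card_eq_fintype_card, hWe] at this
    exact Nat.mul_self_le_mul_self_iff.1 this
  have he1 : 1 ≤ e := by
    rcases Nat.eq_zero_or_pos e with h0 | h0
    · exfalso
      rw [h0, mul_zero] at hWe
      exact (Nat.card_pos (α := W)).ne' hWe
    · exact h0
  -- the image on `W`
  have hker : (toUnits G W).ker = M := by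
    ext c
    rw [MonoidHom.mem_ker]
    constructor
    · intro hc
      have htriv : ∀ m : M, mk (MulAut.conjNormal c m) = mk m := fun m => by
        rw [← hactW]
        exact DFunLike.congr_fun (congrArg Units.val hc) (mk m)
      have hmem : ∀ m : M, ⁅c, (m : G)⁆ ∈ U := fun m => by
        have h1 := htriv m
        have h2 : mk ((MulAut.conjNormal c m) * m⁻¹) = 0 := by
          show mk (MulAut.conjNormal c m) + -mk m = 0
          rw [h1, add_neg_cancel]
        rw [mk_eq_zero, Subgroup.coe_mul, MulAut.conjNormal_apply, InvMemClass.coe_inv] at h2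
        exact h2
      let bc : M → ℂ := fun m => ψ ⁅c, (m : G)⁆
      have hbc : ∀ a b : M, bc (a * b) = bc a * bc b := fun a b => by
        show ψ _ = ψ _ * ψ _
        rw [← hψmul _ (hmem a)]
        congr 1
        calc ⁅c, ((a * b : M) : G)⁆ =
            ⁅c, (a : G)⁆ * ((a : G) * ⁅c, (b : G)⁆ * (a : G)⁻¹) := by
              push_cast
              rw [commutatorElement_def, commutatorElement_def, commutatorElement_def]; group
          _ = _ := by rw [← hUc _ (hmem b), mul_inv_cancel_right]
      have hbU : ∀ u : M, (u : G) ∈ U → bc u = 1 := fun u hu => by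
        show ψ _ = 1
        rw [commutatorElement_eq_one_iff_mul_comm.2 (hUc _ hu c).symm, hψone]
      let χ : Multiplicative W →* ℂ :=
        { toFun := fun y => Quotient.liftOn (Additive.toMul (Multiplicative.toAdd y)) bc (by
            intro a b hab
            replace hab := QuotientGroup.leftRel_apply.1 hab
            rw [Subgroup.mem_subgroupOf] at hab
            rw [show b = a * (a⁻¹ * b) by group, hbc, hbU (a⁻¹ * b) hab, mul_one])
          map_one' := hbU 1 U.one_mem
          map_mul' := fun a b => by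
            obtain ⟨a', ha'⟩ := mk_surj (Multiplicative.toAdd a)
            obtain ⟨b', hb'⟩ := mk_surj (Multiplicative.toAdd b)
            show Quotient.liftOn (Additive.toMul (Multiplicative.toAdd a + Multiplicative.toAdd b))
              bc _ = _
            simp only [← ha', ← hb']
            exact hbc a' b' }
      obtain ⟨w, hw⟩ := hpair.exists_repr χ
      obtain ⟨m0, rfl⟩ := mk_surj w
      have hcm : ((m0 : M) : G)⁻¹ * c ∈ U := by
        refine hD (Subgroup.mem_centralizer_iff.2 fun m hm => ?_)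
        have h1 : bc ⟨m, hm⟩ = bK m0 ⟨m, hm⟩ := hw (mk ⟨m, hm⟩)
        have h2 : ⁅c, m⁆ = ⁅(m0 : G), m⁆ := hρ (by
          rw [hψU _ (hmem ⟨m, hm⟩), hψU _ (hMcomm _ m0.2 _ hm)]
          exact congrArg (· • 1) h1)
        rw [commutatorElement_def, commutatorElement_def, mul_left_inj, mul_assoc, mul_assoc] at h2
        calc m * ((m0 : G)⁻¹ * c) = (m0 : G)⁻¹ * ((m0 : G) * (m * (m0 : G)⁻¹)) * c := by group
          _ = (m0 : G)⁻¹ * (c * (m * c⁻¹)) * c := by rw [h2]
          _ = (m0 : G)⁻¹ * c * m := by group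
      have := M.mul_mem m0.2 (hUM hcm)
      rwa [mul_inv_cancel_left] at this
    · intro hc
      refine Units.ext (AddMonoidHom.ext fun w => ?_)
      obtain ⟨m, rfl⟩ := mk_surj w
      show c • mk m = mk m
      rw [hactW]
      have h2 : mk ((MulAut.conjNormal c m) * m⁻¹) = 0 := by
        rw [mk_eq_zero, Subgroup.coe_mul, MulAut.conjNormal_apply, InvMemClass.coe_inv]
        exact hMcomm _ hc _ m.2
      exact add_neg_eq_zero.1 h2
  have hMF : M ≤ Cfsg.fittingSubgroup G := by
    refine le_fittingSubgroup ?_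
    exact Subgroup.isNilpotent_of_ker_le_center (QuotientGroup.mk' (U.subgroupOf M)) (by
      rw [QuotientGroup.ker_mk']
      intro u hu
      exact Subgroup.mem_center_iff.2 fun g => Subtype.ext (hUc _ (Subgroup.mem_subgroupOf.1 hu) g).symm)
  haveI := finite_range (G := G) (W := W)
  have hb : FB (toUnits G W).range (gb e) :=
    small_bound (lin_perm_bounds _).1 (lin_perm_bounds _).2
      (Group.isSolvable_of_surjective (toUnits G W).rangeRestrict_surjective)
      (isCR_range hpair.isCR) hWe
  refine (FB.of_surjective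
    (QuotientGroup.map (toUnits G W).ker (Cfsg.fittingSubgroup G) (MonoidHom.id G)
      (hker.le.trans hMF)) ?_ (FB.of_injective (QuotientGroup.quotientKerEquivRange (toUnits G W)).toMonoidHom
      (MulEquiv.injective _) hb)).mono ((gb_le_pow he1).trans (Nat.pow_le_pow_right (by norm_num) (by omega)))
  intro q
  induction q using QuotientGroup.induction_on with
  | _ g => exact ⟨(g : G ⧸ (toUnits G W).ker), rfl⟩

/-- The induction step. -/
theorem fitting_step (ρ : G →* Module.End ℂ V) (hρ : Function.Injective ρ)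
    (hs : Group.IsSolvable G) (IH : FittingBelow (finrank ℂ V)) :
    FB (G ⧸ Cfsg.fittingSubgroup G) (3 ^ (finrank ℂ V - 1)) := by
  classical
  rcases Nat.eq_zero_or_pos (finrank ℂ V) with h0 | hr
  · haveI : Subsingleton V := Module.finrank_zero_iff.1 h0
    haveI : Subsingleton G := ⟨fun a b => hρ (LinearMap.ext fun v => Subsingleton.elim _ _)⟩
    refine FB.of_card ?_
    rw [h0]
    exact Finite.card_le_one_iff_subsingleton.2 inferInstance
  by_cases hirr : ∀ W : Submodule ℂ V, (∀ g, ∀ w ∈ W, ρ g w ∈ W) → W = ⊥ ∨ W = ⊤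
  swap
  · simp only [not_forall, not_or] at hirr
    obtain ⟨W, hW, hbot, htop⟩ := hirr
    obtain ⟨U, hU, hc⟩ := exists_invariant_complement ρ W hW
    letI : MulAction G Bool :=
      { smul := fun _ b => b, one_smul := fun _ => rfl, mul_smul := fun _ _ _ => rfl }
    refine fitting_of_family ρ hρ hs IH (fun b : Bool => if b then W else U) ?_ ?_ ?_ ?_
      ⟨true, false, Bool.noConfusion⟩
    · exact (iSupIndep_pair (i := true) (j := false) Bool.noConfusion (fun b => by cases b <;> simp)).2
        (by simpa using hc.disjoint)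
    · rw [iSup_bool_eq]
      simpa using codisjoint_iff.1 hc.codisjoint
    · intro b
      cases b
      · simp only [Bool.false_eq_true, if_false]
        rintro rfl
        exact htop (by simpa using codisjoint_iff.1 hc.codisjoint)
      · simpa using hbot
    · intro g b v hv
      show ρ g v ∈ if b then W else U
      cases b
      · simp only [Bool.false_eq_true, if_false] at hv ⊢; exact hU g v hv
      · simp only [if_true] at hv ⊢; exact hW g v hv
  by_cases hall : ∀ A : Subgroup G, A.Normal → (∀ a ∈ A, ∀ b ∈ A, a * b = b * a) → A ≤ scalarPart ρ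
  · exact fitting_of_scalar ρ hρ hs hr hall
  · simp only [not_forall] at hall
    obtain ⟨A, hA, hab, hns⟩ := hall
    haveI := hA
    exact fitting_of_weights ρ hρ hs IH A hab hns

theorem fitting_bound : ∀ r, FittingBelow r := by
  intro r
  induction r using Nat.strong_induction_on with
  | _ r ih =>
    intro G V _ _ _ _ _ ρ hρ hs hlt
    exact fitting_step ρ hρ hs (ih _ hlt)

end CfsgLib.Solvable.LinearClasses
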