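import Cfsg.Agent.Lib.Solvable.LinearClasses.Small
import Cfsg.Agent.Lib.Perm.OddBase.Idem
import Cfsg.Agent.Lib.Perm.OddBase.SmallImage

/-!
# Class bounds for linear groups: every abelian normal subgroup spans a field

The layers are: automorphisms of the field, scalars, the symplectic module and the image on it.
-/

set_option autoImplicit false
set_option linter.style.haveILetI false

namespace CfsgLib.Solvable.LinearClasses

open CfsgLib.Perm.OddBase
open scoped commutatorElement

variable {G V : Type} [Group G] [Finite G] [AddCommGroup V] [Finite V] [DistribMulAction G V]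

/-- The structure in the field case. -/
theorem exists_field_data [FaithfulSMul G V] [Nontrivial V] [Group.IsSolvable G]
    (hfield : ∀ N : Subgroup G, N.Normal → (∀ a ∈ N, ∀ b ∈ N, a * b = b * a) →
      ∀ r : AddMonoid.End V, r ∈ spanRing N → r ≠ 0 → Function.Injective r) :
    ∃ Q p s d e : ℕ, p.Prime ∧ Q = p ^ s ∧ 1 ≤ s ∧ Nat.card V = Q ^ d ∧ 1 ≤ e ∧ e ≤ d ∧
      (∀ q, q.Prime → q ∣ e → q ∣ Q - 1) ∧
      (∀ g, (∀ (H S : Type) [Group H] [Finite H] [AddCommGroup S] [Finite S]
          [DistribMulAction H S] [FaithfulSMul H S], Group.IsSolvable H → IsCR H S →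
            Nat.card S = e * e → FB H g) →
        FB G (s * ((Q - 1) * (e * e) * g))) ∧
      (e = 1 → ∃ U : Subgroup G, Nat.card U ≤ Q - 1 ∧ U.index ≤ s ∧ ∀ g, g ∉ U →
        ∃ b m, 2 ≤ m ∧ b ^ m = Q ∧
          Nat.card ↥(U ⊓ Subgroup.centralizer ({g} : Set G)) < b) := by
  classical
  haveI : Fintype G := Fintype.ofFinite G
  haveI : Finite (AddMonoid.End V) :=
    Finite.of_injective (β := V → V) _ DFunLike.coe_injective
  obtain ⟨U, ⟨hUn, hUab⟩, hUmax⟩ := Set.exists_max_image
    {N : Subgroup G | N.Normal ∧ ∀ a ∈ N, ∀ b ∈ N, a * b = b * a}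
    (fun N => Nat.card N) (Set.toFinite _) ⟨⊥, inferInstance, fun a ha b hb => by
      rw [Subgroup.mem_bot.1 ha, Subgroup.mem_bot.1 hb]⟩
  haveI := hUn
  have hUtop : ∀ N : Subgroup G, N.Normal → (∀ a ∈ N, ∀ b ∈ N, a * b = b * a) → U ≤ N → N = U :=
    fun N h1 h2 h3 => (Subgroup.eq_of_le_of_card_ge h3 (hUmax N ⟨h1, h2⟩)).symm
  -- the field
  set R := spanRing (V := V) U with hR
  letI : CommRing R :=
    { (inferInstance : Ring R) with
      mul_comm := fun a b => Subtype.ext (spanRing_comm hUab a.2 b.2) }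
  haveI : Nontrivial R := ⟨⟨0, 1, fun e => by
    obtain ⟨x, hx⟩ := exists_ne (0 : V)
    exact hx (DFunLike.congr_fun (congrArg Subtype.val e) x).symm⟩⟩
  haveI : NoZeroDivisors R := ⟨fun {a b} hab => by
    by_contra hne
    push Not at hne
    refine hne.2 (Subtype.ext (AddMonoidHom.ext fun x => ?_))
    have hinj := hfield U hUn hUab a.1 a.2 (fun e => hne.1 (Subtype.ext e))
    refine hinj ?_
    have h2 := DFunLike.congr_fun (congrArg Subtype.val hab) x
    change a.1 (b.1 x) = 0 at h2
    exact h2.trans (map_zero a.1).symm⟩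
  haveI : IsDomain R := NoZeroDivisors.to_isDomain _
  letI : Field R := (Finite.isField_of_domain R).toField
  haveI : Fintype R := Fintype.ofFinite R
  letI : Module R V := Module.compHom V R.subtype
  have hsmul : ∀ (k : R) (x : V), k • x = k.1 x := fun _ _ => rfl
  let ψ : ∀ g, g ∈ U → R := fun g hg => ⟨op g, op_mem_spanRing hg⟩
  have hψ : ∀ g (hg : g ∈ U) (x : V), ψ g hg • x = g • x := fun _ _ _ => rfl
  have hψinj : ∀ g (hg : g ∈ U), ψ g hg = 1 → g = 1 := fun g hg e =>
    FaithfulSMul.eq_of_smul_eq_smul (α := V) fun x => by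
      rw [← hψ g hg, e, one_smul, one_smul]
  have hsmul0 : ∀ (k : R) (x : V), k • x = 0 → k = 0 ∨ x = 0 := fun k x h => smul_eq_zero.1 h
  -- conjugation
  let cj : G → R → R := fun g k => ⟨op g * k.1 * op g⁻¹, spanRing_conj g k.2⟩
  have hcj : ∀ g k (x : V), g • (k • x) = cj g k • (g • x) := fun g k x => by
    show g • k.1 x = g • k.1 (g⁻¹ • g • x)
    rw [inv_smul_smul]
  set C := Subgroup.centralizer (U : Set G) with hCdef
  have hUC : U ≤ C := fun u hu => Subgroup.mem_centralizer_iff.2 fun v hv => hUab v hv u hu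
  haveI hCn : C.Normal := ⟨fun c hc g => Subgroup.mem_centralizer_iff.2 fun u hu => by
    have h2 := Subgroup.mem_centralizer_iff.1 hc (g⁻¹ * u * g)
      (by simpa using Subgroup.Normal.conj_mem hUn u hu g⁻¹)
    calc u * (g * c * g⁻¹) = g * ((g⁻¹ * u * g) * c) * g⁻¹ := by group
      _ = g * (c * (g⁻¹ * u * g)) * g⁻¹ := by rw [h2]
      _ = g * c * g⁻¹ * u := by group⟩
  have hCu : ∀ c ∈ C, ∀ u ∈ U, c * u = u * c := fun c hc u hu =>
    (Subgroup.mem_centralizer_iff.1 hc u hu).symm
  have hClin : ∀ c ∈ C, ∀ (k : R) (x : V), c • (k • x) = k • (c • x) := by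
    rintro c hc ⟨k, hk⟩ x
    show c • k x = k (c • x)
    induction hk using Subring.closure_induction generalizing x with
    | mem y hy =>
      obtain ⟨u, hu, rfl⟩ := hy
      show c • u • x = u • c • x
      rw [smul_smul, smul_smul, hCu c hc u hu]
    | zero => simp
    | one => simp
    | add a b _ _ ha hb =>
      show c • (a x + b x) = a (c • x) + b (c • x)
      rw [smul_add, ha, hb]
    | neg a _ ha =>
      show c • (-(a x)) = -(a (c • x))
      rw [smul_neg, ha]
    | mul a b _ _ ha hb =>
      show c • a (b x) = a (b (c • x))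
      rw [ha, hb]
  -- a generator
  obtain ⟨θu, hθu⟩ := IsCyclic.exists_generator (α := Rˣ)
  set θ : R := (θu : R) with hθ
  have hθC : ∀ g : G, cj g θ = θ → g ∈ C := by
    intro g hg
    have hpow : ∀ n : ℕ, ∀ x : V, g • (θ ^ n • x) = θ ^ n • (g • x) := by
      intro n
      induction n with
      | zero => intro x; rw [pow_zero, one_smul, one_smul]
      | succ n ih => intro x; rw [pow_succ, mul_smul, ih, hcj, hg, mul_smul]
    refine Subgroup.mem_centralizer_iff.2 fun u hu => ?_
    have hψ0 : ψ u hu ≠ 0 := fun e => by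
      obtain ⟨x, hx⟩ := exists_ne (0 : V)
      refine hx ((smul_eq_zero_iff_eq u).1 ?_)
      rw [← hψ u hu, e]
      exact zero_smul R x
    obtain ⟨n, hn⟩ : ∃ n : ℕ, ψ u hu = θ ^ n := by
      obtain ⟨n, hn⟩ := (mem_powers_iff_mem_zpowers (x := θu)).2 (hθu (Units.mk0 _ hψ0))
      refine ⟨n, ?_⟩
      have := congrArg Units.val hn
      simpa [hθ] using this.symm
    refine FaithfulSMul.eq_of_smul_eq_smul (α := V) fun x => ?_
    rw [mul_smul, mul_smul, ← hψ u hu, ← hψ u hu, hn, hpow]
  -- the subgroup `M`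
  obtain ⟨M, ⟨hMn, hUM, hMC, hMcomm⟩, hMmax⟩ := Set.exists_max_image
    {M : Subgroup G | M.Normal ∧ U ≤ M ∧ M ≤ C ∧ ∀ a ∈ M, ∀ b ∈ M, ⁅a, b⁆ ∈ U}
    (fun M => Nat.card M) (Set.toFinite _) ⟨U, hUn, le_rfl, hUC, fun a ha b hb => by
      rw [commutatorElement_eq_one_iff_mul_comm.2 (hUab a ha b hb)]; exact U.one_mem⟩
  haveI := hMn
  have hD : C ⊓ Subgroup.centralizer (M : Set G) ≤ U := by
    set D := C ⊓ Subgroup.centralizer (M : Set G) with hDdef
    haveI : (Subgroup.centralizer (M : Set G)).Normal := ⟨fun c hc g =>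
      Subgroup.mem_centralizer_iff.2 fun u hu => by
        have h2 := Subgroup.mem_centralizer_iff.1 hc (g⁻¹ * u * g)
          (by simpa using Subgroup.Normal.conj_mem hMn u hu g⁻¹)
        calc u * (g * c * g⁻¹) = g * ((g⁻¹ * u * g) * c) * g⁻¹ := by group
          _ = g * (c * (g⁻¹ * u * g)) * g⁻¹ := by rw [h2]
          _ = g * c * g⁻¹ * u := by group⟩
    haveI hDn : D.Normal := Subgroup.normal_inf_normal _ _
    by_contra hne
    obtain ⟨S, hS0, hSsucc⟩ : ∃ S : ℕ → Subgroup G, S 0 = D ∧ ∀ n, S (n + 1) = ⁅S n, S n⁆ :=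
      ⟨fun n => Nat.rec D (fun _ A => ⁅A, A⁆) n, rfl, fun _ => rfl⟩
    have hSn : ∀ n, (S n).Normal ∧ S n ≤ D ∧ S n ≤ derivedSeries G n := by
      intro n
      induction n with
      | zero => rw [hS0]; exact ⟨hDn, le_rfl, le_top⟩
      | succ n ih =>
        haveI := ih.1
        rw [hSsucc]
        refine ⟨Subgroup.commutator_normal _ _, ?_, ?_⟩
        · have h1 : ⁅S n, S n⁆ ≤ S n := Subgroup.commutator_le_left (H₁ := S n) (H₂ := S n)
          exact le_trans h1 ih.2.1
        · exact Subgroup.commutator_mono ih.2.2 ih.2.2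
    obtain ⟨N0, hN0⟩ := Group.IsSolvable.solvable (G := G)
    have hbot : S N0 ≤ U := ((hSn N0).2.2.trans hN0.le).trans bot_le
    obtain ⟨i, hi, hi'⟩ : ∃ i, ¬ S i ≤ U ∧ S (i + 1) ≤ U := by
      by_contra hall
      push Not at hall
      have : ∀ i, ¬ S i ≤ U := fun i => by
        induction i with
        | zero => rw [hS0]; exact hne
        | succ i ih => exact hall i ih
      exact this N0 hbot
    haveI := (hSn i).1
    set N := U ⊔ S i with hNdef
    haveI hNn : N.Normal := Subgroup.sup_normal _ _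
    have hND : ∀ x ∈ N, ∀ m ∈ M, x * m = m * x := by
      intro x hx m hm
      obtain ⟨u, hu, d, hd, rfl⟩ := Subgroup.mem_sup_of_normal_right.1 hx
      have e1 : d * m = m * d :=
        (Subgroup.mem_centralizer_iff.1 ((hSn i).2.1 hd).2 m hm).symm
      have e2 : u * m = m * u := (hCu m (hMC hm) u hu).symm
      rw [mul_assoc, e1, ← mul_assoc, e2, mul_assoc]
    have hNC : N ≤ C := sup_le hUC ((hSn i).2.1.trans inf_le_left)
    have hcN : ∀ a ∈ N, ∀ b ∈ N, ⁅a, b⁆ ∈ U := by
      intro a ha b hb
      obtain ⟨u, hu, d, hd, rfl⟩ := Subgroup.mem_sup_of_normal_right.1 ha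
      obtain ⟨v, hv, f, hf, rfl⟩ := Subgroup.mem_sup_of_normal_right.1 hb
      have hdC := ((hSn i).2.1 hd).1
      have hfC := ((hSn i).2.1 hf).1
      have : ⁅u * d, v * f⁆ = ⁅d, f⁆ := by
        have e1 : u * d * (v * f) = (u * v) * (d * f) := by
          rw [mul_assoc u d, ← mul_assoc d v f, hCu d hdC v hv]; group
        have e2 : v * f * (u * d) = (u * v) * (f * d) := by
          rw [mul_assoc v f, ← mul_assoc f u d, hCu f hfC u hu, hUab u hu v hv]; group
        calc ⁅u * d, v * f⁆ = (u * d * (v * f)) * (v * f * (u * d))⁻¹ := by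
              rw [commutatorElement_def]; group
          _ = ((u * v) * (d * f)) * ((u * v) * (f * d))⁻¹ := by rw [e1, e2]
          _ = (u * v) * (⁅d, f⁆ * (u * v)⁻¹) := by rw [commutatorElement_def]; group
          _ = ⁅d, f⁆ * (u * v)⁻¹ * (u * v) := by
              have hdf : ⁅d, f⁆ ∈ U := hi' (hSsucc i ▸ Subgroup.commutator_mem_commutator hd hf)
              exact hUab _ (U.mul_mem hu hv) _
                (U.mul_mem hdf (U.inv_mem (U.mul_mem hu hv)))
          _ = ⁅d, f⁆ := by group
      rw [this]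
      exact hi' (hSsucc i ▸ Subgroup.commutator_mem_commutator hd hf)
    haveI : (M ⊔ N).Normal := Subgroup.sup_normal _ _
    have hMN : M ⊔ N = M := (Subgroup.eq_of_le_of_card_ge le_sup_left (hMmax _ ⟨inferInstance,
      hUM.trans le_sup_left, sup_le hMC hNC, by
        intro a ha b hb
        obtain ⟨m, hm, n, hn, rfl⟩ := Subgroup.mem_sup_of_normal_right.1 ha
        obtain ⟨m', hm', n', hn', rfl⟩ := Subgroup.mem_sup_of_normal_right.1 hb
        have e : ⁅m * n, m' * n'⁆ = ⁅m, m'⁆ * ⁅n, n'⁆ := by
          have a1 : m * n * (m' * n') = m * m' * (n * n') := by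
            rw [mul_assoc m n, ← mul_assoc n m' n', hND n hn m' hm']; group
          have a2 : m' * n' * (m * n) = m' * m * (n' * n) := by
            rw [mul_assoc m' n', ← mul_assoc n' m n, hND n' hn' m hm]; group
          have a3 : ⁅n, n'⁆ * (m' * m)⁻¹ = (m' * m)⁻¹ * ⁅n, n'⁆ :=
            (hCu _ (C.inv_mem (C.mul_mem (hMC hm') (hMC hm))) _ (hcN n hn n' hn')).symm
          calc ⁅m * n, m' * n'⁆ = (m * n * (m' * n')) * (m' * n' * (m * n))⁻¹ := by
                rw [commutatorElement_def]; group
            _ = (m * m' * (n * n')) * (m' * m * (n' * n))⁻¹ := by rw [a1, a2]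
            _ = m * m' * (⁅n, n'⁆ * (m' * m)⁻¹) := by rw [commutatorElement_def]; group
            _ = m * m' * ((m' * m)⁻¹ * ⁅n, n'⁆) := by rw [a3]
            _ = ⁅m, m'⁆ * ⁅n, n'⁆ := by rw [commutatorElement_def m m']; group
        rw [e]
        exact U.mul_mem (hMcomm m hm m' hm') (hcN n hn n' hn')⟩)).symm
    have hNM : N ≤ M := hMN ▸ le_sup_right
    exact hi ((le_sup_right : S i ≤ N).trans
      (hUtop N hNn (fun a ha b hb => hND a ha b (hNM hb)) le_sup_left).le)
  -- the quotient `W = M / U`
  haveI : (U.subgroupOf M).Normal := Subgroup.Normal.subgroupOf hUn M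
  letI : CommGroup (M ⧸ U.subgroupOf M) :=
    { (inferInstance : Group (M ⧸ U.subgroupOf M)) with
      mul_comm := fun a b => by
        induction a using QuotientGroup.induction_on with
        | _ a =>
        induction b using QuotientGroup.induction_on with
        | _ b =>
        rw [← QuotientGroup.mk_mul, ← QuotientGroup.mk_mul, QuotientGroup.eq,
          Subgroup.mem_subgroupOf]
        have := hMcomm _ (inv_mem b.2) _ (inv_mem a.2)
        have e : (((a * b)⁻¹ * (b * a) : M) : G) = ⁅(b : G)⁻¹, (a : G)⁻¹⁆ := by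
          push_cast
          rw [commutatorElement_def]; group
        rw [e]; exact this }
  let W := Additive (M ⧸ U.subgroupOf M)
  let mk : M → W := fun m => Additive.ofMul (QuotientGroup.mk m)
  have mk_surj : ∀ w : W, ∃ m, mk m = w := fun w =>
    QuotientGroup.mk_surjective (Additive.toMul w)
  have mk_eq_zero : ∀ m : M, mk m = 0 ↔ (m : G) ∈ U := fun m => by
    show QuotientGroup.mk m = (1 : M ⧸ U.subgroupOf M) ↔ _
    rw [QuotientGroup.eq_one_iff, Subgroup.mem_subgroupOf]
  let cq : G → (M ⧸ U.subgroupOf M →* M ⧸ U.subgroupOf M) := fun g =>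
    QuotientGroup.map _ _ (MulAut.conjNormal g : MulAut M).toMonoidHom (by
      intro m hm
      rw [Subgroup.mem_subgroupOf] at hm
      show ((MulAut.conjNormal g m : M) : G) ∈ U
      rw [MulAut.conjNormal_apply]
      exact Subgroup.Normal.conj_mem hUn _ hm g)
  have hcq : ∀ g (m : M), cq g (QuotientGroup.mk m) =
      QuotientGroup.mk (MulAut.conjNormal g m : M) := fun _ _ => rfl
  letI actW : DistribMulAction G W :=
    { smul := fun g w => Additive.ofMul (cq g (Additive.toMul w))
      one_smul := fun w => by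
        obtain ⟨m, rfl⟩ := mk_surj w
        show Additive.ofMul (QuotientGroup.mk (MulAut.conjNormal (1 : G) m : M)) = _
        rw [map_one]; rfl
      mul_smul := fun g k w => by
        obtain ⟨m, rfl⟩ := mk_surj w
        show Additive.ofMul (QuotientGroup.mk (MulAut.conjNormal (g * k) m : M)) = _
        rw [map_mul]; rfl
      smul_zero := fun g => congrArg Additive.ofMul (map_one (cq g))
      smul_add := fun g v w => congrArg Additive.ofMul (map_mul (cq g) _ _) }
  have hactW : ∀ g (m : M), g • mk m = mk (MulAut.conjNormal g m) := fun _ _ => rfl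
  let bK : M → M → R := fun a b => ψ ⁅(a : G), (b : G)⁆ (hMcomm _ a.2 _ b.2)
  have hψmul : ∀ a ha b hb, ψ (a * b) (U.mul_mem ha hb) = ψ a ha * ψ b hb := fun a ha b hb =>
    Subtype.ext (AddMonoidHom.ext fun x => mul_smul a b x)
  have hψone : ∀ a (ha : a ∈ U), a = 1 → ψ a ha = 1 := fun a ha e => by
    subst e
    exact Subtype.ext (AddMonoidHom.ext fun x => one_smul G x)
  have hψcongr : ∀ a ha b hb, a = b → ψ a ha = ψ b hb := fun a ha b hb e => by subst e; rfl
  have hleft : ∀ a b c : M, bK (a * b) c = bK a c * bK b c := by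
    intro a b c
    show ψ _ (hMcomm _ (a * b).2 _ c.2) =
      ψ _ (hMcomm _ a.2 _ c.2) * ψ _ (hMcomm _ b.2 _ c.2)
    rw [← hψmul _ (hMcomm _ a.2 _ c.2) _ (hMcomm _ b.2 _ c.2)]
    refine Subtype.ext (congrArg (fun g : G => (op g : AddMonoid.End V)) ?_)
    have e := hCu (a : G) (hMC a.2) _ (hMcomm _ b.2 _ c.2)
    calc ⁅((a * b : M) : G), (c : G)⁆ = ((a : G) * ⁅(b : G), (c : G)⁆) * (a : G)⁻¹ *
          ⁅(a : G), (c : G)⁆ := by
            push_cast
            rw [commutatorElement_def, commutatorElement_def, commutatorElement_def]; group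
      _ = ⁅(b : G), (c : G)⁆ * ⁅(a : G), (c : G)⁆ := by rw [e]; group
      _ = _ := hUab _ (hMcomm _ b.2 _ c.2) _ (hMcomm _ a.2 _ c.2)
  have hswap : ∀ a b : M, bK a b * bK b a = 1 := fun a b => by
    show ψ _ (hMcomm _ a.2 _ b.2) * ψ _ (hMcomm _ b.2 _ a.2) = 1
    rw [← hψmul _ (hMcomm _ a.2 _ b.2) _ (hMcomm _ b.2 _ a.2)]
    exact hψone (⁅(a : G), (b : G)⁆ * ⁅(b : G), (a : G)⁆)
      (U.mul_mem (hMcomm _ a.2 _ b.2) (hMcomm _ b.2 _ a.2))
      (by rw [← commutatorElement_inv (b : G) (a : G), inv_mul_cancel])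
  have hnull : ∀ u b : M, (u : G) ∈ U → bK u b = 1 := fun u b hu =>
    hψone _ (hMcomm _ u.2 _ b.2)
      (commutatorElement_eq_one_iff_mul_comm.2 ((hCu _ (hMC b.2) _ hu).symm))
  have hnull' : ∀ u b : M, (u : G) ∈ U → bK b u = 1 := fun u b hu => by
    have := hswap b u
    rwa [hnull u b hu, mul_one] at this
  have hright : ∀ a b c : M, bK a (b * c) = bK a b * bK a c := fun a b c => by
    have h1 := hswap a (b * c)
    rw [hleft] at h1
    calc bK a (b * c) = bK a (b * c) * ((bK a b * bK b a) * (bK a c * bK c a)) := by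
          rw [hswap, hswap, mul_one, mul_one]
      _ = bK a (b * c) * (bK b a * bK c a) * (bK a b * bK a c) := by ring
      _ = bK a b * bK a c := by rw [h1, one_mul]
  let β : W → W → R := fun v w => Quotient.liftOn₂ (Additive.toMul v) (Additive.toMul w) bK (by
    intro a b a' b' ha hb
    replace ha := QuotientGroup.leftRel_apply.1 ha
    replace hb := QuotientGroup.leftRel_apply.1 hb
    rw [Subgroup.mem_subgroupOf] at ha hb
    obtain ⟨u, rfl⟩ : ∃ u, a' = a * u := ⟨a⁻¹ * a', by group⟩
    obtain ⟨v, rfl⟩ : ∃ v, b' = b * v := ⟨b⁻¹ * b', by group⟩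
    rw [inv_mul_cancel_left] at ha hb
    rw [hleft, hright, hright, hnull u _ ha, hnull u _ ha, hnull' v _ hb]
    simp only [mul_one])
  have hβmk : ∀ a b, β (mk a) (mk b) = bK a b := fun _ _ => rfl
  have hbK1 : ∀ a b : M, bK a b = 1 ↔ ⁅(a : G), (b : G)⁆ = 1 := fun a b =>
    ⟨fun h => hψinj _ (hMcomm _ a.2 _ b.2) h, fun h => hψone _ (hMcomm _ a.2 _ b.2) h⟩
  have hconjcomm : ∀ (g : G) (a b : M),
      ⁅((MulAut.conjNormal g a : M) : G), ((MulAut.conjNormal g b : M) : G)⁆ =
        g * ⁅(a : G), (b : G)⁆ * g⁻¹ := fun g a b => by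
    rw [MulAut.conjNormal_apply, MulAut.conjNormal_apply, commutatorElement_def,
      commutatorElement_def]
    group
  have hpair : IsPairing G β :=
    { add_left := fun x y z => by
        obtain ⟨a, rfl⟩ := mk_surj x
        obtain ⟨b, rfl⟩ := mk_surj y
        obtain ⟨c, rfl⟩ := mk_surj z
        show β (mk (a * b)) (mk c) = _
        rw [hβmk, hβmk, hβmk, hleft]
      add_right := fun x y z => by
        obtain ⟨a, rfl⟩ := mk_surj x
        obtain ⟨b, rfl⟩ := mk_surj y
        obtain ⟨c, rfl⟩ := mk_surj z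
        show β (mk a) (mk (b * c)) = _
        rw [hβmk, hβmk, hβmk, hright]
      self := fun x => by
        obtain ⟨a, rfl⟩ := mk_surj x
        exact (hbK1 a a).2 (commutatorElement_self _)
      nondeg := fun x hx => by
        obtain ⟨a, rfl⟩ := mk_surj x
        refine (mk_eq_zero a).2 (hD ⟨hMC a.2, Subgroup.mem_centralizer_iff.2 fun m hm => ?_⟩)
        exact (commutatorElement_eq_one_iff_mul_comm.1 ((hbK1 a ⟨m, hm⟩).1 (hx (mk ⟨m, hm⟩)))).symm
      invariant := fun g x y h => by
        obtain ⟨a, rfl⟩ := mk_surj x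
        obtain ⟨b, rfl⟩ := mk_surj y
        rw [hactW, hactW, hβmk, hbK1, hconjcomm]
        rw [hβmk, hbK1] at h
        rw [h, mul_one, mul_inv_cancel]
      no_isotropic := fun Y hY hiso => by
        set N : Subgroup G :=
          { carrier := {g | ∃ h : g ∈ M, mk ⟨g, h⟩ ∈ Y}
            one_mem' := ⟨M.one_mem, Y.zero_mem⟩
            mul_mem' := fun {a b} ⟨ha, ha'⟩ ⟨hb, hb'⟩ => ⟨M.mul_mem ha hb, Y.add_mem ha' hb'⟩
            inv_mem' := fun {a} ⟨ha, ha'⟩ => ⟨M.inv_mem ha, Y.neg_mem ha'⟩ } with hN
        have hNeq : N = U := by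
          refine hUtop N ⟨fun n ⟨hn, hn'⟩ g => ⟨Subgroup.Normal.conj_mem hMn n hn g, ?_⟩⟩
            (fun a ⟨ha, ha'⟩ b ⟨hb, hb'⟩ => ?_)
            (fun u hu => ⟨hUM hu, by rw [(mk_eq_zero ⟨u, hUM hu⟩).2 hu]; exact Y.zero_mem⟩)
          · have e : (MulAut.conjNormal g ⟨n, hn⟩ : M) =
                ⟨g * n * g⁻¹, Subgroup.Normal.conj_mem hMn n hn g⟩ :=
              Subtype.ext (MulAut.conjNormal_apply g ⟨n, hn⟩)
            exact e ▸ hY g _ hn'
          · exact commutatorElement_eq_one_iff_mul_comm.1
              ((hbK1 ⟨a, ha⟩ ⟨b, hb⟩).1 (hiso _ ha' _ hb'))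
        refine (AddSubgroup.eq_bot_iff_forall _).2 fun x hx => ?_
        obtain ⟨a, rfl⟩ := mk_surj x
        exact (mk_eq_zero a).2 (hNeq ▸ (⟨a.2, hx⟩ : (a : G) ∈ N)) }
  -- sizes
  obtain ⟨e, hWe⟩ := hpair.card_square
  set d := Module.finrank R V with hd
  have hed : e ≤ d := by
    haveI : Fintype W := Fintype.ofFinite W
    haveI : Module.Finite R V := Module.Finite.of_finite
    choose s hs using (fun w : W => mk_surj w)
    let L : W → (V →ₗ[R] V) := fun w =>
      { toFun := fun x => ((s w : M) : G) • x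
        map_add' := fun x y => smul_add _ x y
        map_smul' := fun k x => hClin _ (hMC (s w).2) k x }
    have hli : LinearIndependent R L := by
      rw [Fintype.linearIndependent_iff]
      intro c hc w0
      by_contra hne
      obtain ⟨x, hx⟩ := exists_ne (0 : V)
      have hx' : ((s w0 : M) : G) • x ≠ 0 := fun h => hx ((smul_eq_zero_iff_eq _).1 h)
      obtain ⟨f, hf⟩ : ∃ f : Module.Dual R V, f (((s w0 : M) : G) • x) ≠ 0 := by
        by_contra hall
        push Not at hall
        exact hx' ((Module.forall_dual_apply_eq_zero_iff R _).1 hall)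
      let χ : W → (Multiplicative W →* R) := fun w =>
        { toFun := fun y => β w (Multiplicative.toAdd y)
          map_one' := hpair.zero_right w
          map_mul' := fun a b => hpair.add_right w _ _ }
      have hχ : Function.Injective χ := by
        intro a b hab
        refine sub_eq_zero.1 (hpair.nondeg _ fun w => ?_)
        have e : β a w = β b w := DFunLike.congr_fun hab (Multiplicative.ofAdd w)
        rw [sub_eq_add_neg, hpair.add_left, e, ← hpair.add_left, add_neg_cancel,
          hpair.zero_left]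
      have hind := (linearIndependent_monoidHom (Multiplicative W) R).comp χ hχ
      rw [Fintype.linearIndependent_iff] at hind
      have key : ∀ y : Multiplicative W,
          ∑ w, (c w * f (((s w : M) : G) • x)) * χ w y = 0 := by
        intro y
        obtain ⟨m, hm⟩ : ∃ m, mk m = Multiplicative.toAdd y := ⟨s _, hs _⟩
        have h1 : (∑ w, c w • L w) ((m : G) • x) = 0 := by rw [hc]; rfl
        rw [LinearMap.sum_apply] at h1
        have hterm : ∀ w, (c w • L w) ((m : G) • x) =
            (m : G) • ((c w * χ w y) • (((s w : M) : G) • x)) := by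
          intro w
          show c w • ((s w : M) : G) • (m : G) • x = _
          have hcomm : ((s w : M) : G) • (m : G) • x =
              bK (s w) m • ((m : G) • ((s w : M) : G) • x) := by
            rw [hψ _ (hMcomm _ (s w).2 _ m.2), smul_smul, smul_smul, smul_smul]
            congr 1
            rw [commutatorElement_def]; group
          have hχw : χ w y = bK (s w) m := by
            show β w (Multiplicative.toAdd y) = _
            rw [← hm, ← hβmk, hs]
          rw [hcomm, hχw, ← mul_smul, hClin _ (hMC m.2)]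
        rw [Finset.sum_congr rfl (fun w _ => hterm w), ← Finset.smul_sum,
          smul_eq_zero_iff_eq] at h1
        have h2 := congrArg f h1
        rw [map_sum, map_zero] at h2
        rw [← h2]
        refine Finset.sum_congr rfl fun w _ => ?_
        rw [LinearMap.map_smul, smul_eq_mul]; ring
      have := hind (fun w => c w * f (((s w : M) : G) • x)) (funext fun y => by
        rw [Finset.sum_apply]
        exact key y) w0
      exact hne ((mul_eq_zero.1 this).resolve_right hf)
    have := hli.fintype_card_le_finrank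
    rw [Module.finrank_linearMap, ← Nat.card_eq_fintype_card, hWe, ← hd] at this
    exact Nat.mul_self_le_mul_self_iff.1 this
  set Q := Nat.card R with hQ
  have hVQ : Nat.card V = Q ^ d := by
    haveI : Fintype V := Fintype.ofFinite V
    rw [hQ, Nat.card_eq_fintype_card, Nat.card_eq_fintype_card, hd]
    exact Module.card_eq_pow_finrank
  have hd1 : 1 ≤ d := by
    rcases Nat.eq_zero_or_pos d with h0 | h0
    · exfalso
      rw [h0, pow_zero] at hVQ
      exact absurd hVQ (Finite.one_lt_card (α := V)).ne'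
    · exact h0
  have he1' : 1 ≤ e := by
    rcases Nat.eq_zero_or_pos e with h0 | h0
    · exfalso
      rw [h0, mul_zero] at hWe
      exact (Nat.card_pos (α := W)).ne' hWe
    · exact h0
  have hp : ∀ p, p.Prime → p ∣ e → p ∣ Q - 1 := by
    intro p hp hpe
    haveI := Fact.mk hp
    obtain ⟨x, hx⟩ := exists_prime_addOrderOf_dvd_card' (G := W) p (hWe ▸ hpe.trans (dvd_mul_right e e))
    obtain ⟨y, hy⟩ : ∃ y, β x y ≠ 1 := by
      by_contra hall
      push Not at hall
      rw [hpair.nondeg x hall, addOrderOf_zero] at hx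
      exact hp.one_lt.ne hx
    have hpow : β x y ^ p = 1 := by
      rw [← hpair.nsmul_left, ← hx, addOrderOf_nsmul_eq_zero, hpair.zero_left]
    have hne0 : β x y ≠ 0 := fun h0 => by
      rw [h0, zero_pow hp.ne_zero] at hpow
      exact zero_ne_one hpow
    rw [← orderOf_eq_prime hpow hy, hQ, Nat.card_eq_fintype_card]
    exact orderOf_dvd_of_pow_eq_one (FiniteField.pow_card_sub_one_eq_one _ hne0)
  have hUcard : Nat.card U ≤ Q - 1 := by
    have hne : ∀ u : U, ψ u u.2 ≠ 0 := fun u h0 => by
      obtain ⟨x, hx⟩ := exists_ne (0 : V)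
      refine hx ((smul_eq_zero_iff_eq (u : G)).1 ?_)
      rw [← hψ (u : G) u.2, h0]
      exact zero_smul R x
    have := Nat.card_le_card_of_injective (fun u : U => Units.mk0 (ψ u u.2) (hne u)) (by
      intro a b hab
      refine Subtype.ext (FaithfulSMul.eq_of_smul_eq_smul (α := V) fun x => ?_)
      have := congrArg Units.val hab
      rw [← hψ _ a.2, ← hψ _ b.2]
      exact congrArg (· • x) this)
    rwa [Nat.card_units, ← hQ] at this
  -- the automorphisms of the field
  obtain ⟨p, hchar⟩ := CharP.exists R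
  haveI := hchar
  obtain ⟨s, hpp, hs⟩ := FiniteField.card R p
  haveI := Fact.mk hpp
  letI : Algebra (ZMod p) R := ZMod.algebra R p
  have hfin : Module.finrank (ZMod p) R = (s : ℕ) := by
    have h1 := Module.card_eq_pow_finrank (K := ZMod p) (V := R)
    rw [hs, ZMod.card] at h1
    exact (Nat.pow_right_injective hpp.two_le h1).symm
  have hop : ∀ g : G, (op g⁻¹ : AddMonoid.End V) * op g = 1 := fun g =>
    AddMonoidHom.ext fun x => inv_smul_smul g x
  let cjHom : G → (R →+* R) := fun g => RingHom.mk'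
    { toFun := cj g
      map_one' := Subtype.ext (by
        show op g * 1 * op g⁻¹ = (1 : AddMonoid.End V)
        rw [mul_one]
        exact AddMonoidHom.ext fun x => smul_inv_smul g x)
      map_mul' := fun a b => Subtype.ext (by
        show op g * ((a : AddMonoid.End V) * (b : AddMonoid.End V)) * op g⁻¹ = (op g * (a : AddMonoid.End V) * op g⁻¹) * (op g * (b : AddMonoid.End V) * op g⁻¹)
        calc op g * ((a : AddMonoid.End V) * (b : AddMonoid.End V)) * op g⁻¹
            = op g * (a : AddMonoid.End V) * (1 * ((b : AddMonoid.End V) * op g⁻¹)) := by rw [one_mul]; simp only [mul_assoc]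
          _ = op g * (a : AddMonoid.End V) * ((op g⁻¹ * op g) * ((b : AddMonoid.End V) * op g⁻¹)) := by rw [hop]
          _ = _ := by simp only [mul_assoc]) }
    (fun a b => Subtype.ext (by
      show op g * ((a : AddMonoid.End V) + (b : AddMonoid.End V)) * op g⁻¹ = op g * (a : AddMonoid.End V) * op g⁻¹ + op g * (b : AddMonoid.End V) * op g⁻¹
      rw [mul_add, add_mul]))
  let Φ : G → (R →ₐ[ZMod p] R) := fun g =>
    { cjHom g with
      commutes' := fun r => RingHom.congr_fun
        (Subsingleton.elim ((cjHom g).comp (algebraMap (ZMod p) R)) (algebraMap (ZMod p) R)) r }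
  have hsame : ∀ a b : G, cj a θ = cj b θ → a⁻¹ * b ∈ C := by
    intro a b hab
    refine hθC _ ?_
    refine Subtype.ext (AddMonoidHom.ext fun x => ?_)
    have h1 := DFunLike.congr_fun (congrArg Subtype.val hab) (a • x)
    change a • θ.1 (a⁻¹ • a • x) = b • θ.1 (b⁻¹ • a • x) at h1
    rw [inv_smul_smul] at h1
    show (a⁻¹ * b) • θ.1 ((a⁻¹ * b)⁻¹ • x) = θ.1 x
    rw [mul_inv_rev, inv_inv, mul_smul, mul_smul, ← h1, inv_smul_smul]
  have hindex : C.index ≤ (s : ℕ) := by
    rw [← hfin]
    have hcard : Nat.card (R →ₐ[ZMod p] R) ≤ Module.finrank (ZMod p) R := by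
      rw [Nat.card_eq_fintype_card]
      exact AlgHom.card_le (F := ZMod p) (K := R)
    refine le_trans ?_ hcard
    refine Nat.card_le_card_of_injective (fun q : G ⧸ C => Φ q.out) fun a b hab => ?_
    rw [← Quotient.out_eq' a, ← Quotient.out_eq' b]
    exact QuotientGroup.eq.2 (hsame _ _ (DFunLike.congr_fun hab θ))
  let φ := toUnits C W
  have hφ : ∀ (c : C) (w : W), (φ c : AddMonoid.End W) w = (c : G) • w := fun _ _ => rfl
  have hker : φ.ker = M.subgroupOf C := by
    ext c
    rw [Subgroup.mem_subgroupOf, MonoidHom.mem_ker]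
    constructor
    · intro hc
      have htriv : ∀ m : M, mk (MulAut.conjNormal (c : G) m) = mk m := fun m => by
        rw [← hactW, ← hφ, hc]; rfl
      have hmem : ∀ m : M, ⁅(c : G), (m : G)⁆ ∈ U := fun m => by
        have h1 := htriv m
        have h2 : mk ((MulAut.conjNormal (c : G) m) * m⁻¹) = 0 := by
          show mk (MulAut.conjNormal (c : G) m) + -mk m = 0
          rw [h1, add_neg_cancel]
        rw [mk_eq_zero, Subgroup.coe_mul, MulAut.conjNormal_apply, InvMemClass.coe_inv] at h2
        exact h2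
      let bc : M → R := fun m => ψ _ (hmem m)
      have hbc : ∀ a b : M, bc (a * b) = bc a * bc b := fun a b => by
        show ψ _ (hmem (a * b)) = ψ _ (hmem a) * ψ _ (hmem b)
        rw [← hψmul _ (hmem a) _ (hmem b)]
        refine Subtype.ext (congrArg (fun g : G => (op g : AddMonoid.End V)) ?_)
        calc ⁅(c : G), ((a * b : M) : G)⁆ =
            ⁅(c : G), (a : G)⁆ * ((a : G) * ⁅(c : G), (b : G)⁆ * (a : G)⁻¹) := by
              push_cast
              rw [commutatorElement_def, commutatorElement_def, commutatorElement_def]; group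
          _ = _ := by rw [hCu _ (hMC a.2) _ (hmem b), mul_inv_cancel_right]
      let χ : Multiplicative W →* R :=
        { toFun := fun y => Quotient.liftOn (Additive.toMul (Multiplicative.toAdd y)) bc (by
            intro a b hab
            replace hab := QuotientGroup.leftRel_apply.1 hab
            rw [Subgroup.mem_subgroupOf] at hab
            rw [show b = a * (a⁻¹ * b) by group, hbc, show bc (a⁻¹ * b) = 1 from
              hψone _ (hmem (a⁻¹ * b))
                (commutatorElement_eq_one_iff_mul_comm.2 (hCu _ c.2 _ hab)), mul_one])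
          map_one' := hψone _ (hmem 1) (commutatorElement_one_right _)
          map_mul' := fun a b => by
            obtain ⟨a', ha'⟩ := mk_surj (Multiplicative.toAdd a)
            obtain ⟨b', hb'⟩ := mk_surj (Multiplicative.toAdd b)
            show Quotient.liftOn (Additive.toMul (Multiplicative.toAdd a + Multiplicative.toAdd b))
              bc _ = _
            simp only [← ha', ← hb']
            exact hbc a' b' }
      obtain ⟨w, hw⟩ := hpair.exists_repr χ
      obtain ⟨m0, rfl⟩ := mk_surj w
      have hcm : ((m0 : M) : G)⁻¹ * (c : G) ∈ U := by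
        refine hD ⟨C.mul_mem (C.inv_mem (hMC m0.2)) c.2,
          Subgroup.mem_centralizer_iff.2 fun m hm => ?_⟩
        have h1 : bc ⟨m, hm⟩ = bK m0 ⟨m, hm⟩ := hw (mk ⟨m, hm⟩)
        have h2 : ⁅(c : G), m⁆ = ⁅(m0 : G), m⁆ := by
          refine FaithfulSMul.eq_of_smul_eq_smul (α := V) fun x => ?_
          have := congrArg (· • x) h1
          simpa only [bc, bK, hψ] using this
        rw [commutatorElement_def, commutatorElement_def, mul_left_inj, mul_assoc, mul_assoc,
          ] at h2
        calc m * ((m0 : G)⁻¹ * c) = (m0 : G)⁻¹ * ((m0 : G) * (m * (m0 : G)⁻¹)) * c := by group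
          _ = (m0 : G)⁻¹ * ((c : G) * (m * (c : G)⁻¹)) * c := by rw [h2]
          _ = (m0 : G)⁻¹ * c * m := by group
      have := M.mul_mem m0.2 (hUM hcm)
      rwa [mul_inv_cancel_left] at this
    · intro hc
      refine Units.ext (AddMonoidHom.ext fun w => ?_)
      obtain ⟨m, rfl⟩ := mk_surj w
      show (c : G) • mk m = mk m
      rw [hactW]
      have h2 : mk ((MulAut.conjNormal (c : G) m) * m⁻¹) = 0 := by
        rw [mk_eq_zero, Subgroup.coe_mul, MulAut.conjNormal_apply, InvMemClass.coe_inv]
        exact hMcomm _ hc _ m.2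
      exact add_neg_eq_zero.1 h2
  refine ⟨Q, p, (s : ℕ), d, e, hpp, by rw [hQ, Nat.card_eq_fintype_card, hs], s.2, hVQ, he1', hed,
    hp, fun g hg => ?_, fun he => ?_⟩
  · haveI := finite_range (G := C) (W := W)
    have hWM : Nat.card M = Nat.card U * (e * e) := by
      rw [← hWe, ← Nat.card_congr (Subgroup.subgroupOfEquivOfLe hUM).toEquiv, mul_comm]
      exact Subgroup.card_eq_card_quotient_mul_card_subgroup _
    have hkerM : FB (toUnits C W).rangeRestrict.ker ((Q - 1) * (e * e)) := by
      refine FB.of_card ?_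
      rw [MonoidHom.ker_rangeRestrict, hker,
        Nat.card_congr (Subgroup.subgroupOfEquivOfLe hMC).toEquiv, hWM]
      exact Nat.mul_le_mul_right _ hUcard
    have hC : FB C ((Q - 1) * (e * e) * g) :=
      FB.ext (toUnits C W).rangeRestrict hkerM
        (hg _ W (Group.isSolvable_of_surjective (toUnits C W).rangeRestrict_surjective)
          (isCR_range (isCR_normal hpair.isCR C)) hWe)
    rw [mul_comm]
    exact FB.ext_quotient C hC (FB.of_card hindex)
  · subst he
    have hMU : M ≤ U := fun m hm => by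
      rw [← mk_eq_zero ⟨m, hm⟩]
      haveI : Subsingleton W := (Nat.card_eq_one_iff_unique.1 (by rw [hWe])).1
      exact Subsingleton.elim _ _
    have hCU : C = U := le_antisymm (fun c hc => hD ⟨hc, Subgroup.mem_centralizer_iff.2 fun m hm =>
      (hCu c hc m (hMU hm)).symm⟩) hUC
    refine ⟨U, hUcard, hCU ▸ hindex, fun g hg => ?_⟩
    let S : Subring R := (cjHom g).eqLocus (RingHom.id R)
    letI : Field S := (Finite.isField_of_domain S).toField
    haveI : Fintype S := Fintype.ofFinite S
    have hpow : Nat.card R = Nat.card S ^ Module.finrank S R := by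
      rw [Nat.card_eq_fintype_card, Nat.card_eq_fintype_card]
      exact Module.card_eq_pow_finrank
    have hθS : θ ∉ S := fun h => hg (hCU ▸ hθC g h)
    refine ⟨Nat.card S, Module.finrank S R, ?_, by rw [hQ, hpow], ?_⟩
    · by_contra hm
      rcases Nat.lt_or_ge (Module.finrank S R) 1 with h0 | h0
      · rw [Nat.lt_one_iff.1 h0, pow_zero] at hpow
        exact absurd hpow (Finite.one_lt_card (α := R)).ne'
      · rw [show Module.finrank S R = 1 by omega, pow_one] at hpow
        exact hθS ((Subring.eq_top_iff' S).1 (by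
          refine SetLike.coe_injective ?_
          rw [Subring.coe_top]
          exact Set.eq_of_subset_of_ncard_le (Set.subset_univ _) (by
            rw [Set.ncard_univ, hpow, ← Nat.card_coe_set_eq]; rfl) (Set.toFinite _)) θ)
    · have hmem : ∀ u : ↥(U ⊓ Subgroup.centralizer ({g} : Set G)), ψ u.1 u.2.1 ∈ S := fun u => by
        refine Subtype.ext (AddMonoidHom.ext fun x => ?_)
        show g • (u : G) • g⁻¹ • x = (u : G) • x
        rw [smul_smul, smul_smul, ← Subgroup.mem_centralizer_singleton_iff.1 u.2.2,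
          mul_assoc, mul_inv_cancel, mul_one]
      refine lt_of_le_of_lt (Nat.card_le_card_of_injective
        (fun u => (⟨⟨_, hmem u⟩, fun h0 => ?_⟩ : {x : S // x ≠ 0})) ?_)
        (Finite.card_subtype_lt (x := (0 : S)) (by simp))
      · obtain ⟨x, hx⟩ := exists_ne (0 : V)
        refine hx ((smul_eq_zero_iff_eq (u : G)).1 ?_)
        rw [← hψ (u : G) u.2.1, show ψ (u : G) u.2.1 = 0 from congrArg Subtype.val h0]
        exact zero_smul R x
      · intro u v huv
        refine Subtype.ext (FaithfulSMul.eq_of_smul_eq_smul (α := V) fun x => ?_)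
        have := congrArg (fun z : {x : S // x ≠ 0} => ((z : S) : R) • x) huv
        simpa only [hψ] using this

end CfsgLib.Solvable.LinearClasses
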