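import Cfsg.Agent.Lib.Solvable.LinearClasses.Blocks
import Cfsg.Agent.Lib.Solvable.LinearClasses.Field

/-!
# Class bounds for linear groups: the induction step for modules
-/

set_option autoImplicit false
set_option linter.style.haveILetI false

namespace CfsgLib.Solvable.LinearClasses

open CfsgLib.Perm.OddBase (Invariant IsCR IsIrred spanRing isCR_sub subAction
  exists_blocks_of_not_field)

/-- The bound on the group of the symplectic layer of degree `e`. -/
def gb (e : ℕ) : ℕ :=
  if e ≤ 1 then 1 else if e = 2 then 3 else if e = 3 then 9 else if e ≤ 6 then 27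
  else if e = 7 then 53 else lb (e * e * 1)

theorem gb_large {e : ℕ} (he : 8 ≤ e) : gb e = lb (e * e) := by
  simp only [gb, mul_one]
  rw [if_neg (by omega), if_neg (by omega), if_neg (by omega), if_neg (by omega), if_neg (by omega)]

theorem sq_lt_three_pow : ∀ e : ℕ, e * e < 3 ^ e
  | 0 => by norm_num
  | 1 => by norm_num
  | e + 2 => by
    have h := sq_lt_three_pow (e + 1)
    have h2 : 9 ≤ 3 ^ (e + 2) := by
      calc 9 = 3 ^ 2 := by norm_num
        _ ≤ 3 ^ (e + 2) := Nat.pow_le_pow_right (by norm_num) (by omega)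
    rw [pow_succ]
    nlinarith

theorem scalar_bound {Q p s : ℕ} (hp : p.Prime) (hQ : Q = p ^ s) (hs : 1 ≤ s) :
    3 * s * (Q - 1) ≤ Q * Q ∨ (Q = 4 ∧ s = 2) := by
  have h2s : 2 ^ s ≤ Q := hQ ▸ Nat.pow_le_pow_left hp.two_le s
  rcases Nat.lt_or_ge s 4 with h | h
  · interval_cases s
    · left
      have : 1 ≤ Q := le_trans (by norm_num) h2s
      rcases Nat.lt_or_ge Q 3 with h3 | h3
      · interval_cases Q <;> norm_num
      · exact Nat.mul_le_mul (by omega) (Nat.sub_le Q 1)
    · rcases Nat.lt_or_ge p 3 with h3 | h3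
      · right
        have := hp.two_le
        have : p = 2 := by omega
        subst this
        exact ⟨by rw [hQ]; norm_num, rfl⟩
      · left
        have : 9 ≤ Q := by rw [hQ]; exact Nat.pow_le_pow_left h3 2
        exact Nat.mul_le_mul (by omega) (Nat.sub_le Q 1)
    · left
      have h8 : 8 ≤ Q := h2s
      rcases Nat.lt_or_ge Q 9 with h9 | h9
      · interval_cases Q; norm_num
      · exact Nat.mul_le_mul h9 (Nat.sub_le Q 1)
  · left
    have : ∀ t, 4 ≤ t → 3 * t ≤ 2 ^ t := fun t ht => by
      induction t, ht using Nat.le_induction with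
      | base => norm_num
      | succ t ht ih => rw [pow_succ]; omega
    exact Nat.mul_le_mul ((this s h).trans h2s) (Nat.sub_le Q 1)

theorem pow_six_le : ∀ e : ℕ, 8 ≤ e → 2 * e ^ 6 ≤ 3 ^ (2 * e - 2) := by
  intro e he
  induction e, he using Nat.le_induction with
  | base => norm_num
  | succ e he ih =>
    have h1 : (e + 1) ^ 6 ≤ 9 * e ^ 6 := by
      have h2 : (8 * (e + 1)) ^ 6 ≤ (9 * e) ^ 6 := Nat.pow_le_pow_left (by omega) 6
      rw [mul_pow, mul_pow] at h2
      omega
    rw [show 2 * (e + 1) - 2 = 2 * e - 2 + 2 by omega, pow_add]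
    omega

/-- The layers multiply to at most a third of the square of the module. -/
theorem field_bound {Q p s e : ℕ} (hp : p.Prime) (hQ : Q = p ^ s) (hs : 1 ≤ s) (he : 1 ≤ e)
    (hdvd : ∀ q, q.Prime → q ∣ e → q ∣ Q - 1) (hexc : ¬ (Q = 4 ∧ e = 1)) :
    3 * (s * ((Q - 1) * (e * e) * gb e)) ≤ Q ^ (2 * e) := by
  have hre : 3 * (s * ((Q - 1) * (e * e) * gb e)) = 3 * s * (Q - 1) * (e * e * gb e) := by ring
  rw [hre]
  have hb := scalar_bound hp hQ hs
  have hQ2 : 2 ≤ Q := hQ ▸ le_trans hp.two_le (Nat.le_self_pow (by omega) p)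
  rcases Nat.lt_or_ge e 2 with h1 | h2
  · obtain rfl : e = 1 := by omega
    rw [show gb 1 = 1 from rfl]
    rcases hb with hb | ⟨h4, -⟩
    · rw [mul_one, mul_one, mul_one, pow_two]
      exact hb
    · exact absurd ⟨h4, rfl⟩ hexc
  have hweak : 3 * s * (Q - 1) ≤ 2 * (Q * Q) := by
    rcases hb with hb | ⟨rfl, rfl⟩
    · omega
    · norm_num
  have hprime : ∀ q, q.Prime → q ∣ e → q < Q := fun q hq hqe => by
    have := Nat.le_of_dvd (by omega) (hdvd q hq hqe)
    omega
  have hQ3 : 3 ≤ Q := by
    have := hprime _ (Nat.minFac_prime (n := e) (by omega)) e.minFac_dvd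
    have := (Nat.minFac_prime (n := e) (by omega)).two_le
    omega
  have main : ∀ r : ℕ, r ≤ Q → 2 * (e * e * gb e) ≤ r ^ (2 * e - 2) →
      3 * s * (Q - 1) * (e * e * gb e) ≤ Q ^ (2 * e) := by
    intro r hr h
    calc 3 * s * (Q - 1) * (e * e * gb e) ≤ 2 * (Q * Q) * (e * e * gb e) :=
          Nat.mul_le_mul_right _ hweak
      _ = Q * Q * (2 * (e * e * gb e)) := by ring
      _ ≤ Q * Q * Q ^ (2 * e - 2) :=
          Nat.mul_le_mul_left _ (h.trans (Nat.pow_le_pow_left hr _))
      _ = Q ^ 2 * Q ^ (2 * e - 2) := by rw [pow_two]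
      _ = Q ^ (2 * e) := by rw [← pow_add]; congr 1; omega
  rcases Nat.lt_or_ge e 8 with h8 | h8
  · interval_cases e
    · have hodd : ¬ 2 ∣ Q := fun h => by
        have := hdvd 2 Nat.prime_two (dvd_refl 2)
        omega
      rcases Nat.lt_or_ge Q 5 with h5 | h5
      · obtain rfl : Q = 3 := by omega
        have hs1 : s = 1 := by
          have h' : 2 ^ s ≤ 3 := hQ ▸ Nat.pow_le_pow_left hp.two_le s
          by_contra hne
          have : 4 ≤ 2 ^ s := le_trans (by norm_num : 4 ≤ 2 ^ 2)
            (Nat.pow_le_pow_right (by norm_num) (by omega))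
          omega
        subst hs1
        norm_num [gb]
      · refine main 5 h5 ?_
        norm_num [gb]
    · exact main 4 (hprime 3 Nat.prime_three (dvd_refl 3)) (by norm_num [gb])
    · refine le_trans ?_ (le_refl _)
      rcases Nat.lt_or_ge Q 4 with h4 | h4
      · obtain rfl : Q = 3 := by omega
        have hs1 : s = 1 := by
          have h' : 2 ^ s ≤ 3 := hQ ▸ Nat.pow_le_pow_left hp.two_le s
          by_contra hne
          have : 4 ≤ 2 ^ s := le_trans (by norm_num : 4 ≤ 2 ^ 2)
            (Nat.pow_le_pow_right (by norm_num) (by omega))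
          omega
        subst hs1
        norm_num [gb]
      · exact main 4 h4 (by norm_num [gb])
    · exact main 6 (hprime 5 Nat.prime_five (dvd_refl 5)) (by norm_num [gb])
    · exact main 3 hQ3 (by norm_num [gb])
    · exact main 3 hQ3 (by norm_num [gb])
  · refine main 3 hQ3 (le_trans ?_ (pow_six_le e h8))
    rw [gb_large h8]
    have := three_lb (n := e * e) (Nat.mul_le_mul (by omega : 1 ≤ e) (by omega : 2 ≤ e))
    calc 2 * (e * e * lb (e * e)) ≤ 2 * (e * e * (e * e * (e * e))) := by
          refine Nat.mul_le_mul_left _ (Nat.mul_le_mul_left _ ?_)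
          omega
      _ = 2 * e ^ 6 := by ring

theorem fb_trivial {G V : Type} [Group G] [Finite G] [AddCommGroup V] [Finite V]
    [DistribMulAction G V] [FaithfulSMul G V] (h : Nat.card V ≤ 1) {c : ℕ} (hc : 1 ≤ c) :
    FB G c := by
  haveI : Subsingleton V := Finite.card_le_one_iff_subsingleton.1 h
  haveI : Subsingleton G := ⟨fun a b =>
    FaithfulSMul.eq_of_smul_eq_smul (α := V) fun x => Subsingleton.elim _ _⟩
  exact FB.of_card (le_trans (Finite.card_le_one_iff_subsingleton.2 inferInstance) hc)

/-- A solvable completely reducible group on sixteen vectors. -/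
theorem fb_sixteen {G V : Type} [Group G] [Finite G] [AddCommGroup V] [Finite V]
    [DistribMulAction G V] [FaithfulSMul G V] (IH : LinBelow 16) (IHs : PermBelow 5)
    (hs : Group.IsSolvable G) (hcr : IsCR G V) (hV : Nat.card V = 16) : FB G 27 := by
  classical
  haveI := hs
  haveI : Nontrivial V := Finite.one_lt_card_iff_nontrivial.1 (by omega)
  by_cases hirr : IsIrred G V
  swap
  · obtain ⟨u, z, hu, hz, huz, h⟩ := fb_of_reducible hs hcr hirr (hV ▸ IH)
    refine h.mono ?_
    rw [hV] at huz
    have hu8 : u ≤ 8 := by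
      by_contra hlt
      have := Nat.mul_le_mul (show 9 ≤ u by omega) hz
      omega
    have hcases : (u = 2 ∧ z = 8) ∨ (u = 4 ∧ z = 4) ∨ (u = 8 ∧ z = 2) := by
      interval_cases u <;> omega
    rcases hcases with ⟨rfl, rfl⟩ | ⟨rfl, rfl⟩ | ⟨rfl, rfl⟩ <;> norm_num [lb]
  by_cases hfield : ∀ N : Subgroup G, N.Normal → (∀ a ∈ N, ∀ b ∈ N, a * b = b * a) →
      ∀ r : AddMonoid.End V, r ∈ spanRing N → r ≠ 0 → Function.Injective r
  · obtain ⟨Q, p, s, d, e, hp, hQ, hs1, hVQ, he1, hed, hdvd, hfb, hfix⟩ :=
      exists_field_data hfield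
    rw [hV] at hVQ
    have hQd : ∃ i, i ≤ 4 ∧ Q = 2 ^ i :=
      (Nat.dvd_prime_pow Nat.prime_two).1 (show Q ∣ 2 ^ 4 by
        rw [show (2 : ℕ) ^ 4 = 16 by norm_num, hVQ]
        exact dvd_pow_self Q (by omega))
    obtain ⟨i, hi, hQi⟩ := hQd
    have hp2 : p = 2 ∧ s = i := by
      have hs0 : s ≠ 0 := by omega
      have hdvd2 : p ∣ 2 ^ i := by rw [← hQi, hQ]; exact dvd_pow_self p hs0
      have h2 : p = 2 := (Nat.prime_dvd_prime_iff_eq hp Nat.prime_two).1 (hp.dvd_of_dvd_pow hdvd2)
      subst h2
      exact ⟨rfl, Nat.pow_right_injective le_rfl (hQ.symm.trans hQi)⟩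
    obtain ⟨-, rfl⟩ := hp2
    have hd4 : s * d = 4 := by
      refine Nat.pow_right_injective le_rfl (?_ : 2 ^ (s * d) = 2 ^ 4)
      rw [pow_mul, ← hQi, ← hVQ]
      norm_num
    have he : e = 1 := by
      by_contra hne
      have hq := Nat.minFac_prime hne
      have h1 := hdvd _ hq e.minFac_dvd
      have h2 : e.minFac ≤ d := (Nat.minFac_le (by omega)).trans hed
      have hd2 : d ≤ 4 := Nat.le_of_dvd (by norm_num) ⟨s, by rw [mul_comm, hd4]⟩
      have hmin := hq.two_le
      have hcases : (s = 1 ∧ d = 4) ∨ (s = 2 ∧ d = 2) ∨ (s = 4 ∧ d = 1) := by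
        interval_cases d <;> omega
      generalize e.minFac = q at h1 h2 hmin
      subst hQi
      rcases hcases with ⟨rfl, rfl⟩ | ⟨rfl, rfl⟩ | ⟨rfl, rfl⟩
      · norm_num at h1
        omega
      · interval_cases q
        norm_num at h1
      · omega
    subst he
    obtain ⟨U, hU, hidx, hout⟩ := hfix rfl
    rcases Nat.lt_or_ge s 4 with hlt | hge
    · have hs2 : s ≤ 2 := by
        by_contra h3
        obtain rfl : s = 3 := by omega
        omega
      refine FB.of_card ?_
      rw [← U.card_mul_index]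
      have : Q ≤ 2 ^ 2 := hQi ▸ Nat.pow_le_pow_right (by norm_num) hs2
      calc Nat.card U * U.index ≤ 3 * 2 := Nat.mul_le_mul (by omega) (hidx.trans hs2)
        _ ≤ 27 := by norm_num
    obtain rfl : s = 4 := by omega
    intro Y
    have hQ16 : Q = 16 := by rw [hQi]; norm_num
    have hc := card_classes_lt (G := Y) {y : Y | (y : G) ∈ U} (z := 15) (M := 12) U.one_mem
      (by norm_num) ?_ ?_
    · omega
    · rw [← Nat.card_coe_set_eq]
      refine le_trans (Nat.card_le_card_of_injective (β := U) (fun y => ⟨y.1.1, y.2⟩) ?_) (by omega)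
      intro a b hab
      exact Subtype.ext (Subtype.ext (congrArg Subtype.val hab :))
    · intro y hy
      obtain ⟨b, m, hm, hbm, hlt⟩ := hout (y : G) hy
      have hb4 : b ≤ 4 := by
        by_contra hb
        have h1 : 5 ^ m ≤ b ^ m := Nat.pow_le_pow_left (by omega) m
        have h2 : 5 ^ 2 ≤ 5 ^ m := Nat.pow_le_pow_right (by norm_num) hm
        omega
      set C := Subgroup.centralizer ({(y : G)} : Set G) with hC
      have hCcard : Nat.card C ≤ 3 * 4 := by
        rw [← (U.subgroupOf C).card_mul_index]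
        refine Nat.mul_le_mul ?_ (le_trans (le_of_le_of_eq (Subgroup.relIndex_le_of_le_right le_top (by simp [Subgroup.index_ne_zero_of_finite])) (Subgroup.relIndex_top_right U)) hidx)
        refine le_trans (Nat.card_le_card_of_injective (β := ↥(U ⊓ C))
          (fun u => ⟨(u : C), u.2, (u : C).2⟩) ?_) (by omega)
        intro a b hab
        exact Subtype.ext (Subtype.ext (congrArg Subtype.val hab :))
      refine le_trans (Nat.card_le_card_of_injective (β := C)
        (fun x : {x : Y // Commute y x} => ⟨(x.1 : G), Subgroup.mem_centralizer_singleton_iff.2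
          ((congrArg Subtype.val x.2.eq : (y : G) * x.1 = x.1 * y).symm)⟩) ?_) hCcard
      intro a b hab
      exact Subtype.ext (Subtype.ext (congrArg Subtype.val hab :))
  · simp only [not_forall] at hfield
    obtain ⟨N, hN, hab, r, hr, hr0, hri⟩ := hfield
    haveI := hN
    obtain ⟨ι, hι, hact, π, h1, h2, h3, h4, h5, h6⟩ :=
      exists_blocks_of_not_field hirr N hab fun hall => hri (hall r hr hr0)
    obtain ⟨v, k, hv, hk, hvk, hblocks⟩ := fb_of_blocks hs hirr π h1 h2 h3 h4 h5 h6
    rw [hV] at hvk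
    have hk4 : k ≤ 4 := by
      by_contra hk5
      have h1 : 2 ^ 5 ≤ 2 ^ k := Nat.pow_le_pow_right (by norm_num) (by omega)
      have h2 : 2 ^ k ≤ v ^ k := Nat.pow_le_pow_left hv k
      omega
    have hv4 : v ≤ 4 := by
      by_contra hv5
      have h1 : 5 ^ 2 ≤ 5 ^ k := Nat.pow_le_pow_right (by norm_num) hk
      have h2 : 5 ^ k ≤ v ^ k := Nat.pow_le_pow_left (by omega) k
      omega
    refine (hblocks (if v = 2 then 1 else 3) (3 ^ (k - 1))
      (fun H S _ _ _ _ _ _ hsol hcrS hS => ?_)
      (fun H α _ _ _ _ _ hsol hα => hα ▸ IHs H α hsol (by omega))).mono ?_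
    · have hcs := IH H S hsol hcrS (by omega)
      interval_cases v
      · exact hcs.mono (by rw [hS]; norm_num [lb])
      · exact hcs.mono (by rw [hS]; norm_num [lb])
      · exact (fb_plane Nat.prime_two (hS.trans (by norm_num))
          (exponent_of_isCR (k := 2) (hS.trans (by norm_num)) hcrS)).mono (by norm_num)
    · interval_cases v <;> interval_cases k <;> first | (norm_num at hvk; done) | norm_num

/-- The bound on the symplectic layer. -/
theorem small_bound {e : ℕ} (IH : LinBelow (e * e + 1)) (IHs : PermBelow (e * e + 1))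
    {H S : Type} [Group H] [Finite H] [AddCommGroup S] [Finite S] [DistribMulAction H S]
    [FaithfulSMul H S] (hs : Group.IsSolvable H) (hcr : IsCR H S) (hS : Nat.card S = e * e) :
    FB H (gb e) := by
  have plane : ∀ {q : ℕ}, q.Prime → e = q → q * q + q - 3 ≤ gb e → FB H (gb e) := by
    rintro q hq rfl hle
    exact (fb_plane hq hS (exponent_of_isCR (hS.trans (pow_two e).symm) hcr)).mono hle
  rcases Nat.lt_or_ge e 8 with h8 | h8
  · interval_cases e
    · exact fb_trivial (V := S) (by omega) le_rfl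
    · exact fb_trivial (V := S) (by omega) le_rfl
    · exact plane Nat.prime_two rfl (by norm_num [gb])
    · exact plane Nat.prime_three rfl (by norm_num [gb])
    · exact fb_sixteen (IH.mono (by norm_num)) (IHs.mono (by norm_num)) hs hcr (hS.trans (by norm_num))
    · exact plane Nat.prime_five rfl (by norm_num [gb])
    · -- split into the parts of exponents four and nine
      have hS36 : Nat.card S = 36 := hS.trans (by norm_num)
      have hker : ∀ k : ℕ, Invariant H S (DistribSMul.toAddMonoidHom S k).ker := by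
        intro k g x hx
        change k • (g • x) = 0
        rw [← smul_comm g k x, show k • x = 0 from hx, smul_zero]
      set U := (DistribSMul.toAddMonoidHom S (4 : ℕ)).ker with hU
      set Z := (DistribSMul.toAddMonoidHom S (9 : ℕ)).ker with hZ
      have h36 : ∀ x : S, (36 : ℕ) • x = 0 := fun x => by rw [← hS36]; exact card_nsmul_eq_zero'
      have hUx : ∀ x ∈ U, (4 : ℕ) • x = 0 := fun x hx => hx
      have hZx : ∀ x ∈ Z, (9 : ℕ) • x = 0 := fun x hx => hx
      have hbot : U ⊓ Z = ⊥ := (AddSubgroup.eq_bot_iff_forall _).2 fun x hx => by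
        have h1 := hUx x hx.1
        have h2 := hZx x hx.2
        calc x = (9 : ℕ) • x - (2 : ℕ) • ((4 : ℕ) • x) := by
              rw [smul_smul, sub_eq_add_neg, show (9 : ℕ) = 2 * 4 + 1 by norm_num, add_smul,
                one_smul]
              abel
          _ = 0 := by rw [h1, h2, smul_zero, sub_zero]
      have htop : U ⊔ Z = ⊤ := (AddSubgroup.eq_top_iff' _).2 fun x => by
        have h1 : (9 : ℕ) • x ∈ U := by
          show (4 : ℕ) • (9 : ℕ) • x = 0
          rw [smul_smul]; exact h36 x
        have h2 : (2 : ℕ) • ((4 : ℕ) • x) ∈ Z := by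
          show (9 : ℕ) • (2 : ℕ) • (4 : ℕ) • x = 0
          rw [smul_smul, smul_smul, show 9 * 2 * 4 = 2 * 36 by norm_num, mul_smul, h36, smul_zero]
        have e : x = (9 : ℕ) • x + -((2 : ℕ) • ((4 : ℕ) • x)) := by
          rw [smul_smul, show (9 : ℕ) = 2 * 4 + 1 by norm_num, add_smul, one_smul]
          abel
        rw [e]
        exact AddSubgroup.mem_sup.2 ⟨_, h1, _, Z.neg_mem h2, rfl⟩
      have hmul := card_mul_of_compl hbot htop
      rw [hS36] at hmul
      have hcop : ∀ (q k : ℕ) (X : AddSubgroup S), q.Prime → ¬ q ∣ k → (∀ x ∈ X, k • x = 0) →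
          ¬ q ∣ Nat.card X := by
        intro q k X hq hqk hX hdvd
        haveI := Fact.mk hq
        obtain ⟨x, hx⟩ := exists_prime_addOrderOf_dvd_card' (G := X) q hdvd
        exact hqk (hx ▸ addOrderOf_dvd_of_nsmul_eq_zero (Subtype.ext (hX x.1 x.2)))
      have h3 := hcop 3 4 U Nat.prime_three (by norm_num) hUx
      have h2 := hcop 2 9 Z Nat.prime_two (by norm_num) hZx
      have hU36 : Nat.card U ≤ 36 := Nat.le_of_dvd (by norm_num) ⟨_, hmul.symm⟩
      have hcards : Nat.card U = 4 ∧ Nat.card Z = 9 := by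
        revert hmul h3 h2 hU36
        generalize Nat.card U = a
        generalize Nat.card Z = b
        intros
        interval_cases a <;> omega
      have hUF : @FB (@toUnits H U _ _ (subAction U (hker 4))).range _ 3 := by
        letI := subAction U (hker 4)
        haveI := finite_range (G := H) (W := U)
        exact (fb_plane (W := U) Nat.prime_two (hcards.1.trans (by norm_num))
          (exponent_of_isCR (G := H) (k := 2) (hcards.1.trans (by norm_num))
            (isCR_sub hcr U (hker 4)))).mono (by norm_num)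
      have hZF : @FB (@toUnits H Z _ _ (subAction Z (hker 9))).range _ 9 := by
        letI := subAction Z (hker 9)
        haveI := finite_range (G := H) (W := Z)
        exact (fb_plane (W := Z) Nat.prime_three (hcards.2.trans (by norm_num))
          (exponent_of_isCR (G := H) (k := 2) (hcards.2.trans (by norm_num))
            (isCR_sub hcr Z (hker 9)))).mono (by norm_num)
      exact (fb_two U Z (hker 4) (hker 9) htop hUF hZF).mono (by norm_num [gb])
    · exact plane (q := 7) (by norm_num) rfl (by norm_num [gb])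
  · rw [gb_large h8, ← hS]
    exact IH H S hs hcr (by omega)

/-- The induction step for modules. -/
theorem lin_step {G V : Type} [Group G] [Finite G] [AddCommGroup V] [Finite V]
    [DistribMulAction G V] [FaithfulSMul G V] (hs : Group.IsSolvable G) (hcr : IsCR G V)
    (IH : LinBelow (Nat.card V)) (IHs : PermBelow (Nat.card V)) : FB G (lb (Nat.card V)) := by
  classical
  haveI := hs
  rcases Nat.lt_or_ge (Nat.card V) 2 with h2 | h2
  · exact fb_trivial (V := V) (by omega) (le_max_left _ _)
  haveI : Nontrivial V := Finite.one_lt_card_iff_nontrivial.1 (by omega)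
  by_cases h4 : Nat.card V = 4
  · rw [h4]
    exact (fb_plane Nat.prime_two (h4.trans (by norm_num))
      (exponent_of_isCR (k := 2) (h4.trans (by norm_num)) hcr)).mono (by norm_num [lb])
  by_cases hirr : IsIrred G V
  swap
  · obtain ⟨u, z, hu, hz, huz, h⟩ := fb_of_reducible hs hcr hirr IH
    refine h.mono (le_lb ?_)
    rw [← huz]
    calc 3 * (lb u * lb z) ≤ (3 * lb u) * (3 * lb z) := by
          rw [show (3 * lb u) * (3 * lb z) = 9 * (lb u * lb z) by ring]; omega
      _ ≤ (u * u) * (z * z) := Nat.mul_le_mul (three_lb hu) (three_lb hz)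
      _ = u * z * (u * z) := by ring
  by_cases hfield : ∀ N : Subgroup G, N.Normal → (∀ a ∈ N, ∀ b ∈ N, a * b = b * a) →
      ∀ r : AddMonoid.End V, r ∈ spanRing N → r ≠ 0 → Function.Injective r
  · obtain ⟨Q, p, s, d, e, hp, hQ, hs1, hVQ, he1, hed, hdvd, hfb, -⟩ := exists_field_data hfield
    have hQ2 : 2 ≤ Q := hQ ▸ le_trans hp.two_le (Nat.le_self_pow (by omega) p)
    have hQe : Q ^ e ≤ Nat.card V := hVQ ▸ Nat.pow_le_pow_right (by omega) hed
    have hlt : e * e < Nat.card V := by
      rcases Nat.lt_or_ge e 2 with h1 | h1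
      · obtain rfl : e = 1 := by omega
        omega
      · have hq := Nat.minFac_prime (n := e) (by omega)
        have := Nat.le_of_dvd (by omega) (hdvd _ hq e.minFac_dvd)
        have := hq.two_le
        exact lt_of_lt_of_le (sq_lt_three_pow e)
          ((Nat.pow_le_pow_left (by omega) e).trans hQe)
    refine (hfb (gb e) fun H S _ _ _ _ _ _ hsol hcrS hS =>
      small_bound (IH.mono hlt) (IHs.mono hlt) hsol hcrS hS).mono (le_lb ?_)
    by_cases hexc : Q = 4 ∧ e = 1
    · obtain ⟨rfl, rfl⟩ := hexc
      have hs2 : s ≤ 2 := by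
        by_contra h3
        have : 2 ^ 3 ≤ p ^ s := (Nat.pow_le_pow_right (by norm_num) (by omega : 3 ≤ s)).trans
          (Nat.pow_le_pow_left hp.two_le s)
        omega
      have hd : 2 ≤ d := by
        by_contra hd
        obtain rfl : d = 1 := by omega
        exact h4 (by rw [hVQ, pow_one])
      have : 4 ^ 2 ≤ Nat.card V := hVQ ▸ Nat.pow_le_pow_right (by norm_num) hd
      calc 3 * (s * ((4 - 1) * (1 * 1) * gb 1)) ≤ 3 * (2 * 3) := by
            rw [show gb 1 = 1 from rfl]; omega
        _ ≤ 4 ^ 2 * 4 ^ 2 := by norm_num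
        _ ≤ _ := Nat.mul_le_mul this this
    · refine (field_bound hp hQ hs1 he1 hdvd hexc).trans ?_
      rw [two_mul, pow_add]
      exact Nat.mul_le_mul hQe hQe
  · simp only [not_forall] at hfield
    obtain ⟨N, hN, hab, r, hr, hr0, hri⟩ := hfield
    haveI := hN
    obtain ⟨ι, hι, hact, π, h1, h2', h3, h4', h5, h6⟩ :=
      exists_blocks_of_not_field hirr N hab fun hall => hri (hall r hr hr0)
    obtain ⟨v, k, hv, hk, hvk, hblocks⟩ := fb_of_blocks hs hirr π h1 h2' h3 h4' h5 h6
    have hkV : k < Nat.card V :=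
      lt_of_lt_of_le (Nat.lt_two_pow_self) ((Nat.pow_le_pow_left hv k).trans hvk)
    have hvV : v < Nat.card V :=
      lt_of_lt_of_le (by
        calc v < v * v := lt_mul_of_one_lt_left (by omega) hv
          _ = v ^ 2 := (pow_two v).symm
          _ ≤ v ^ k := Nat.pow_le_pow_right (by omega) hk) hvk
    refine (hblocks (lb v) (3 ^ (k - 1))
      (fun H S _ _ _ _ _ _ hsol hcrS hS => hS ▸ IH H S hsol hcrS (by omega))
      (fun H α _ _ _ _ _ hsol hα => hα ▸ IHs H α hsol (by omega))).mono (le_lb ?_)
    calc 3 * (lb v ^ k * 3 ^ (k - 1)) = (3 * lb v) ^ k := by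
          rw [mul_pow, mul_left_comm, ← pow_succ', Nat.sub_add_cancel (by omega), mul_comm]
      _ ≤ (v * v) ^ k := Nat.pow_le_pow_left (three_lb hv) k
      _ = v ^ k * v ^ k := mul_pow _ _ _
      _ ≤ _ := Nat.mul_le_mul hvk hvk

end CfsgLib.Solvable.LinearClasses
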