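import Cfsg.Agent.Lib.Solvable.LinearClasses.Basic
import Cfsg.Agent.Lib.Perm.OddBase.Basic

/-!
# Class bounds for linear groups: definitions and the plane case
-/

set_option autoImplicit false

namespace CfsgLib.Solvable.LinearClasses

open CfsgLib.Perm.OddBase (Invariant IsCR)

/-- The bound for a completely reducible solvable group on `n` vectors. -/
def lb (n : ℕ) : ℕ := max 1 (n * n / 3)

theorem three_lb {n : ℕ} (hn : 2 ≤ n) : 3 * lb n ≤ n * n := by
  have h : 4 ≤ n * n := Nat.mul_le_mul hn hn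
  unfold lb
  omega

theorem le_lb {n k : ℕ} (h : 3 * k ≤ n * n) : k ≤ lb n := by
  unfold lb
  omega

/-- The statement for modules with fewer than `n` elements. -/
def LinBelow (n : ℕ) : Prop :=
  ∀ (G V : Type) [Group G] [Finite G] [AddCommGroup V] [Finite V] [DistribMulAction G V]
    [FaithfulSMul G V], Group.IsSolvable G → IsCR G V → Nat.card V < n → FB G (lb (Nat.card V))

/-- The statement for sets with fewer than `n` points. -/
def PermBelow (n : ℕ) : Prop :=
  ∀ (G α : Type) [Group G] [Finite G] [Finite α] [MulAction G α] [FaithfulSMul G α],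
    Group.IsSolvable G → Nat.card α < n → FB G (3 ^ (Nat.card α - 1))

theorem LinBelow.mono {a b : ℕ} (h : LinBelow b) (hab : a ≤ b) : LinBelow a :=
  fun G V _ _ _ _ _ _ h1 h2 h3 => h G V h1 h2 (h3.trans_le hab)

theorem PermBelow.mono {a b : ℕ} (h : PermBelow b) (hab : a ≤ b) : PermBelow a :=
  fun G V _ _ _ _ _ h1 h3 => h G V h1 (h3.trans_le hab)

section Images

variable (G W : Type) [Group G] [AddCommGroup W] [DistribMulAction G W]

/-- The operators given by an action. -/
def toUnits : G →* (AddMonoid.End W)ˣ := (DistribMulAction.toAddMonoidEnd G W).toHomUnits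

variable {G W}

theorem rangeRestrict_smul (g : G) (w : W) : (toUnits G W).rangeRestrict g • w = g • w := rfl

theorem isCR_range (hcr : IsCR G W) : IsCR (toUnits G W).range W := by
  intro Y hY
  obtain ⟨Z, hZ, h1, h2⟩ := hcr Y fun g w hw => hY ⟨_, g, rfl⟩ w hw
  refine ⟨Z, ?_, h1, h2⟩
  rintro ⟨_, g, rfl⟩ w hw
  exact hZ g w hw

theorem finite_range [Finite G] : Finite (toUnits G W).range :=
  Finite.of_surjective _ (toUnits G W).rangeRestrict_surjective

theorem LinBelow.range [Finite G] [Finite W] {n : ℕ} (IH : LinBelow n)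
    (hs : Group.IsSolvable G) (hcr : IsCR G W) (hn : Nat.card W < n) :
    FB (toUnits G W).range (lb (Nat.card W)) :=
  haveI := finite_range (G := G) (W := W)
  haveI := hs
  IH (toUnits G W).range W (Group.isSolvable_of_surjective (toUnits G W).rangeRestrict_surjective)
    (isCR_range hcr) hn

theorem faithful_subgroup [FaithfulSMul G W] (Y : Subgroup G) : FaithfulSMul Y W :=
  ⟨fun {_ _} hab => Subtype.ext (FaithfulSMul.eq_of_smul_eq_smul (α := W) hab)⟩

end Images

theorem exponent_of_isCR {G V : Type} [Group G] [AddCommGroup V] [Finite V] [DistribMulAction G V]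
    {p k : ℕ} (hV : Nat.card V = p ^ k) (hcr : IsCR G V) : ∀ x : V, p • x = 0 := by
  set U := (DistribMulAction.toAddMonoidHom V p).range with hU
  obtain ⟨Z, -, h1, h2⟩ := hcr U (by
    rintro g _ ⟨x, rfl⟩
    exact ⟨g • x, (smul_comm g p x).symm⟩)
  have hstep : ∀ x : V, ∃ y : V, p • x = p • (p • y) := by
    intro x
    have hx : x ∈ U ⊔ Z := by rw [h2]; trivial
    obtain ⟨_, ⟨y, rfl⟩, z, hz, rfl⟩ := AddSubgroup.mem_sup.1 hx
    have hz0 : p • z = 0 := (AddSubgroup.eq_bot_iff_forall _).1 h1 _ ⟨⟨z, rfl⟩, Z.nsmul_mem hz p⟩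
    exact ⟨y, by rw [smul_add, hz0, add_zero]; rfl⟩
  have hall : ∀ (j : ℕ) (x : V), ∃ y : V, p • x = p ^ (j + 1) • y := by
    intro j
    induction j with
    | zero => exact fun x => ⟨x, by rw [pow_one]⟩
    | succ j ih =>
      intro x
      obtain ⟨y, hy⟩ := hstep x
      obtain ⟨z, hz⟩ := ih y
      exact ⟨z, by rw [hy, hz, smul_smul, ← pow_succ']⟩
  intro x
  obtain ⟨y, hy⟩ := hall k x
  rw [hy, pow_succ', mul_smul, ← hV, card_nsmul_eq_zero', smul_zero]

/-- A faithful group on a plane over a prime field has fewer than `p ^ 2 + p - 2` classes. -/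
theorem classes_plane {G W : Type} [Group G] [Finite G] [AddCommGroup W] [Finite W]
    [DistribMulAction G W] [FaithfulSMul G W] {p : ℕ} (hp : p.Prime)
    (hW : Nat.card W = p * p) (hexp : ∀ x : W, p • x = 0) :
    Nat.card (ConjClasses G) ≤ p * p + p - 3 := by
  classical
  haveI := Fact.mk hp
  have hord : ∀ v : W, v ≠ 0 → addOrderOf v = p := fun v hv => addOrderOf_eq_prime (hexp v) hv
  have hz : ∀ v : W, v ≠ 0 → Nat.card (AddSubgroup.zmultiples v) = p := fun v hv => by
    rw [Nat.card_zmultiples, hord v hv]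
  let T : Set G := {g | ∀ v : W, g • v ∈ AddSubgroup.zmultiples v}
  have hgen : ∀ v w : W, v ≠ 0 → w ∉ AddSubgroup.zmultiples v →
      AddSubgroup.zmultiples v ⊔ AddSubgroup.zmultiples w = ⊤ := by
    intro v w hv hw
    set S := AddSubgroup.zmultiples v ⊔ AddSubgroup.zmultiples w with hS
    have hlt : p < Nat.card S := by
      refine lt_of_le_of_ne ?_ fun e => hw ?_
      · rw [← hz v hv]; exact AddSubgroup.card_le_of_le le_sup_left
      · have he := AddSubgroup.eq_of_le_of_card_ge
          (le_sup_left : AddSubgroup.zmultiples v ≤ S) (by rw [hz v hv, e])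
        rw [he]
        exact AddSubgroup.mem_sup_right (AddSubgroup.mem_zmultiples w)
    have hd : Nat.card S ∣ p ^ 2 := by rw [pow_two, ← hW]; exact S.card_addSubgroup_dvd_card
    obtain ⟨i, hi, hc⟩ := (Nat.dvd_prime_pow hp).1 hd
    refine AddSubgroup.eq_top_of_card_eq _ ?_
    rw [hW, hc]
    interval_cases i
    · rw [hc, pow_zero] at hlt; exact absurd hlt (not_lt.2 hp.one_lt.le)
    · rw [hc, pow_one] at hlt; exact absurd hlt (lt_irrefl p)
    · exact pow_two p
  have hW2 : 2 ≤ p * p := le_trans hp.two_le (Nat.le_mul_self p)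
  obtain ⟨v0, hv0⟩ : ∃ v : W, v ≠ 0 := by
    haveI : Nontrivial W := Finite.one_lt_card_iff_nontrivial.1 (by omega)
    exact exists_ne 0
  -- an element of `T` is a scalar
  have hscal : ∀ g ∈ T, ∃ a : ℤ, ∀ w : W, g • w = a • w := by
    intro g hg
    obtain ⟨a, ha⟩ := hg v0
    replace ha : a • v0 = g • v0 := ha
    refine ⟨a, fun w => ?_⟩
    by_cases hw : w ∈ AddSubgroup.zmultiples v0
    · obtain ⟨j, rfl⟩ := hw
      show g • (j • v0) = a • (j • v0)
      rw [smul_comm g j v0, ← ha, smul_comm a j v0]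
    obtain ⟨b, hb⟩ := hg w
    replace hb : b • w = g • w := hb
    obtain ⟨c, hc⟩ := hg (v0 + w)
    replace hc : c • (v0 + w) = g • (v0 + w) := hc
    rw [smul_add, smul_add, ← ha, ← hb] at hc
    have h3 : (a - c) • v0 = (c - b) • w := by
      rw [sub_smul, sub_smul]
      rw [sub_eq_sub_iff_add_eq_add]
      rw [← hc]
      abel
    have h4 : (c - b) • w = 0 := by
      by_contra hne
      refine hw ?_
      have hmem : (c - b) • w ∈ AddSubgroup.zmultiples v0 := ⟨a - c, h3⟩
      have hle : AddSubgroup.zmultiples ((c - b) • w) ≤ AddSubgroup.zmultiples w :=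
        AddSubgroup.zmultiples_le.2 ⟨c - b, rfl⟩
      have hw0 : w ≠ 0 := fun e => hne (by rw [e, smul_zero])
      have heq := AddSubgroup.eq_of_le_of_card_ge hle (by rw [hz w hw0, hz _ hne])
      exact AddSubgroup.zmultiples_le.2 hmem (heq ▸ AddSubgroup.mem_zmultiples w)
    rw [h4] at h3
    have hac : (p : ℤ) ∣ a - c := by
      rw [← hord v0 hv0]; exact addOrderOf_dvd_iff_zsmul_eq_zero.2 h3
    obtain ⟨j, hj⟩ := hac
    have h5 : (a - c) • w = 0 := by rw [hj, mul_comm, mul_smul, natCast_zsmul, hexp, smul_zero]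
    rw [sub_smul, sub_eq_zero] at h4 h5
    rw [← hb, ← h4, h5]
  have hT : T.ncard ≤ p - 1 := by
    have : Nat.card T ≤
        Nat.card {w : W // w ∈ AddSubgroup.zmultiples v0 ∧ w ≠ 0} := by
      refine Nat.card_le_card_of_injective (fun g => ⟨g.1 • v0, g.2 v0, fun e => hv0 ?_⟩) ?_
      · exact (smul_eq_zero_iff_eq g.1).1 e
      · rintro ⟨g, hg⟩ ⟨h, hh⟩ he
        simp only [Subtype.mk.injEq] at he
        obtain ⟨a, ha⟩ := hscal g hg
        obtain ⟨b, hb⟩ := hscal h hh
        refine Subtype.ext (FaithfulSMul.eq_of_smul_eq_smul (α := W) fun w => ?_)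
        have h1 : (a - b) • v0 = 0 := by rw [sub_smul, ← ha, ← hb, he, sub_self]
        obtain ⟨j, hj⟩ : (p : ℤ) ∣ a - b := by
          rw [← hord v0 hv0]; exact addOrderOf_dvd_iff_zsmul_eq_zero.2 h1
        have h2 : (a - b) • w = 0 := by rw [hj, mul_comm, mul_smul, natCast_zsmul, hexp, smul_zero]
        rw [ha, hb, ← sub_eq_zero, ← sub_smul, h2]
    rw [← Nat.card_coe_set_eq]
    refine this.trans (le_of_eq ?_)
    have hset : {w : W | w ∈ AddSubgroup.zmultiples v0 ∧ w ≠ 0} =
        (AddSubgroup.zmultiples v0 : Set W) \ {0} := rfl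
    rw [← Set.coe_setOf, hset, Nat.card_coe_set_eq,
      Set.ncard_diff_singleton_of_mem (AddSubgroup.zero_mem _), ← Nat.card_coe_set_eq,
      SetLike.coe_sort_coe, hz v0 hv0]
  have hM : ∀ g, g ∉ T → Nat.card {x // Commute g x} ≤ p * p - 1 := by
    intro g hg
    obtain ⟨v, hv⟩ : ∃ v : W, g • v ∉ AddSubgroup.zmultiples v := by
      by_contra hall
      push Not at hall
      exact hg hall
    have hv' : v ≠ 0 := fun e => hv (by rw [e, smul_zero]; exact AddSubgroup.zero_mem _)
    have key : Nat.card {x // Commute g x} ≤ Nat.card {w : W // w ≠ 0} := by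
      refine Nat.card_le_card_of_injective
        (fun x => ⟨x.1 • v, fun e => hv' ((smul_eq_zero_iff_eq x.1).1 e)⟩) ?_
      rintro ⟨x, hx⟩ ⟨y, hy⟩ he
      simp only [Subtype.mk.injEq] at he
      refine Subtype.ext (FaithfulSMul.eq_of_smul_eq_smul (α := W) fun w => ?_)
      let E : AddSubgroup W := AddMonoidHom.eqLocus (DistribMulAction.toAddMonoidHom W x)
        (DistribMulAction.toAddMonoidHom W y)
      have hE : (⊤ : AddSubgroup W) ≤ E := by
        rw [← hgen v (g • v) hv' hv, sup_le_iff, AddSubgroup.zmultiples_le,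
          AddSubgroup.zmultiples_le]
        refine ⟨he, ?_⟩
        show x • g • v = y • g • v
        rw [← mul_smul, ← mul_smul, ← hx.eq, ← hy.eq, mul_smul, mul_smul, he]
      exact hE (AddSubgroup.mem_top w)
    refine key.trans (le_of_eq ?_)
    haveI : Fintype W := Fintype.ofFinite W
    rw [Nat.card_eq_fintype_card, Fintype.card_subtype_compl, Fintype.card_subtype_eq,
      ← Nat.card_eq_fintype_card, hW]
  have h1 : (1 : G) ∈ T := fun v => by rw [one_smul]; exact AddSubgroup.mem_zmultiples v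
  have := card_classes_lt T h1 (by omega) hT hM
  have := hp.two_le
  omega

theorem fb_plane {G W : Type} [Group G] [Finite G] [AddCommGroup W] [Finite W]
    [DistribMulAction G W] [FaithfulSMul G W] {p : ℕ} (hp : p.Prime) (hW : Nat.card W = p * p)
    (hexp : ∀ x : W, p • x = 0) : FB G (p * p + p - 3) := fun Y =>
  haveI := faithful_subgroup (W := W) Y
  classes_plane hp hW hexp

end CfsgLib.Solvable.LinearClasses
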